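import Cfsg.Agent.Lib.DegreeTools.Eigen
import Cfsg.Agent.Lib.Char.Integral
import Mathlib.GroupTheory.GroupAction.ConjAct
import Mathlib.GroupTheory.GroupAction.Quotient
import Mathlib.GroupTheory.Index

/-!
# Lower bounds for the number of conjugacy classes
-/

set_option autoImplicit false

open scoped Classical

namespace CfsgLib.Frobenius.TwoClassPReg

open CfsgLib.DegreeTools.Eigen

variable {H : Type*} [Group H] [Finite H]

theorem card_conjugates (a : H) :
    Nat.card {z // IsConj a z} = (Subgroup.centralizer ({a} : Set H)).index := by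
  haveI := Fintype.ofFinite H
  rw [← CfsgLib.Char.card_isConj_eq_index a]
  exact Nat.card_congr (Equiv.subtypeEquivRight fun z => isConj_comm)

/-- An abelian subgroup of small index gives many classes. -/
theorem card_le_card_conjClasses_mul_index (A : Subgroup H) (hA : ∀ a ∈ A, ∀ b ∈ A, a * b = b * a) :
    Nat.card A ≤ Nat.card (ConjClasses H) * A.index := by
  haveI := Fintype.ofFinite A
  haveI : Finite (ConjClasses H) := Finite.of_surjective _ ConjClasses.mk_surjective
  haveI := Fintype.ofFinite (ConjClasses H)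
  rw [Nat.card_eq_fintype_card, Nat.card_eq_fintype_card, ← Finset.card_univ, ← Finset.card_univ, mul_comm]
  refine Finset.card_le_mul_card_image_of_maps_to (f := fun a : A => ConjClasses.mk (a : H))
    (fun _ _ => Finset.mem_univ _) _ fun c _ => ?_
  rcases Finset.eq_empty_or_nonempty ((Finset.univ : Finset A).filter fun a : A => ConjClasses.mk (a : H) = c) with h | ⟨a, ha⟩
  · simp [h]
  have hle : A ≤ Subgroup.centralizer ({(a : H)} : Set H) := fun b hb =>
    Subgroup.mem_centralizer_singleton_iff.2 (hA b hb a a.2)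
  haveI := Fintype.ofFinite {z // IsConj (a : H) z}
  refine le_trans ?_ (Nat.le_of_dvd (Nat.pos_of_ne_zero A.index_ne_zero_of_finite) (Subgroup.index_dvd_of_le hle))
  rw [← card_conjugates, Nat.card_eq_fintype_card, ← Finset.card_univ]
  refine Finset.card_le_card_of_injOn
    (fun b : A => if h : IsConj (a : H) (b : H) then (⟨b, h⟩ : {z // IsConj (a : H) z}) else ⟨a, IsConj.refl _⟩)
    (fun _ _ => Finset.mem_univ _) ?_
  intro b hb b' hb' he
  simp only [Finset.coe_filter, Set.mem_setOf_eq, Finset.mem_univ, true_and] at hb hb'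
  have h1 : ∀ b : A, ConjClasses.mk (b : H) = c → IsConj (a : H) (b : H) := fun b hb =>
    ConjClasses.mk_eq_mk_iff_isConj.1 ((Finset.mem_filter.1 ha).2.trans hb.symm)
  simp only [dif_pos (h1 b hb), dif_pos (h1 b' hb'), Subtype.mk.injEq] at he
  exact Subtype.ext he

variable {n r : ℕ}

/-- At most `n` conjugates of an element of prime order inside the subgroup it generates, `n` the degree of a
faithful representation. -/
theorem card_conj_zpowers_le (hr : r.Prime) (ρ : Representation ℂ H (Fin n → ℂ)) (hρ : Function.Injective ρ)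
    {y : H} (hy : orderOf y = r) :
    Nat.card {z // z ∈ Subgroup.zpowers y ∧ IsConj y z} ≤ n := by
  haveI : Fact r.Prime := ⟨hr⟩
  set ω := Complex.exp (2 * Real.pi * Complex.I / r)
  have hω : IsPrimitiveRoot ω r := Complex.isPrimitiveRoot_exp r hr.ne_zero
  have hyr : y ^ r = 1 := hy ▸ pow_orderOf_eq_one y
  have hT : ρ y ^ r = 1 := by rw [← map_pow, hyr, map_one]
  set m := fun e : ℕ => mult (ρ y) r (ω ^ e)
  have hm : ∀ e, ((r * m e : ℕ) : ℂ) = ∑ i : ZMod r, (ω ^ e)⁻¹ ^ i.val * ρ.character (y ^ i.val) := by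
    intro e
    have hc : (ω ^ e) ^ r = 1 := by rw [← pow_mul, mul_comm, pow_mul, hω.pow_eq_one, one_pow]
    have h3 := trace_proj hT hc hr.ne_zero
    rw [proj, map_smul, map_sum, smul_eq_mul, inv_mul_eq_iff_eq_mul₀ (Nat.cast_ne_zero.2 hr.ne_zero)] at h3
    rw [Nat.cast_mul, ← h3]
    refine Finset.sum_bij' (fun i _ => (i : ZMod r)) (fun i _ => i.val) (fun _ _ => Finset.mem_univ _)
      (fun i _ => Finset.mem_range.2 (ZMod.val_lt i)) (fun i hi => ZMod.val_cast_of_lt (Finset.mem_range.1 hi))
      (fun i _ => ZMod.natCast_zmod_val i) fun i hi => ?_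
    rw [ZMod.val_cast_of_lt (Finset.mem_range.1 hi), map_smul, smul_eq_mul]
    simp only [Representation.character, map_pow ρ]
  obtain ⟨e₀, he₀, hm₀⟩ : ∃ e < r, e ≠ 0 ∧ m e ≠ 0 := by
    by_contra hall
    push Not at hall
    have h := eq_smul_of_mult_eq_zero hω hT hr.ne_zero hr.pos (k₀ := 0) hall
    rw [pow_zero, one_smul, ← map_one ρ] at h
    rw [hρ h, orderOf_one] at hy
    exact hr.one_lt.ne hy
  obtain ⟨hm₀, hm₁⟩ := hm₀
  set S := (Finset.range r).filter fun e => m e ≠ 0
  have hS : S.card ≤ n := by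
    have h4 := sum_mult hω hT hr.ne_zero
    rw [Module.finrank_fin_fun] at h4
    rw [← h4, Finset.card_eq_sum_ones]
    refine (Finset.sum_le_sum fun k hk => ?_).trans (Finset.sum_le_sum_of_subset (Finset.filter_subset _ _))
    exact Nat.one_le_iff_ne_zero.2 (Finset.mem_filter.1 hk).2
  have hex : ∀ z : {z // z ∈ Subgroup.zpowers y ∧ IsConj y z}, ∃ j : ZMod r, y ^ j.val = z := by
    rintro ⟨z, hz, -⟩
    obtain ⟨k, hk, rfl⟩ := Finset.mem_image.1
      ((isOfFinOrder_of_finite y).mem_zpowers_iff_mem_range_orderOf.1 hz)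
    refine ⟨(k : ZMod r), ?_⟩
    rw [ZMod.val_cast_of_lt (by rw [← hy]; exact Finset.mem_range.1 hk)]
  choose j hj using hex
  have hj0 : ∀ z, j z ≠ 0 := by
    intro z h
    have h1 := hj z
    rw [h, ZMod.val_zero, pow_zero] at h1
    have h2 := z.2.2
    rw [← h1, isConj_one_left] at h2
    rw [h2, orderOf_one] at hy
    exact hr.one_lt.ne hy
  haveI := Fintype.ofFinite {z // z ∈ Subgroup.zpowers y ∧ IsConj y z}
  rw [Nat.card_eq_fintype_card, ← Finset.card_univ]
  refine le_trans (Finset.card_le_card_of_injOn (fun z => ((e₀ : ZMod r) * j z).val) ?_ ?_) hS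
  · intro z _
    refine Finset.mem_coe.2 (Finset.mem_filter.2 ⟨Finset.mem_range.2 (ZMod.val_lt _), fun h => hm₁ ?_⟩)
    have heq : ((r * m ((e₀ : ZMod r) * j z).val : ℕ) : ℂ) = ((r * m e₀ : ℕ) : ℂ) := by
      rw [hm, hm]
      symm
      refine Fintype.sum_bijective (fun i => i * (j z)⁻¹) (mulRight_bijective₀ _ (inv_ne_zero (hj0 z))) _ _ ?_
      intro i
      obtain ⟨g, hg⟩ := isConj_iff.1 z.2.2
      have hval : ρ.character (y ^ i.val) = ρ.character (y ^ (i * (j z)⁻¹).val) := by
        set i' := i * (j z)⁻¹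
        have hi : y ^ i.val = (z : H) ^ i'.val := by
          rw [← hj z, ← pow_mul]
          refine pow_eq_pow_iff_modEq.2 ?_
          rw [hy, ← ZMod.natCast_eq_natCast_iff]
          push_cast
          simp only [ZMod.natCast_zmod_val, i']
          field_simp [hj0 z]
        rw [hi, ← hg, conj_pow, Representation.char_conj]
      rw [hval]
      congr 1
      rw [inv_pow, inv_pow, ← pow_mul, ← pow_mul]
      congr 1
      refine pow_eq_pow_of_modEq ?_ hω.pow_eq_one
      rw [← ZMod.natCast_eq_natCast_iff]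
      push_cast
      simp only [ZMod.natCast_zmod_val]
      field_simp [hj0 z]
    rw [Nat.cast_inj, Nat.mul_right_inj hr.ne_zero] at heq
    rwa [heq] at h
  · intro a _ b _ hab
    have he : (e₀ : ZMod r) ≠ 0 := by
      rw [Ne, ZMod.natCast_eq_zero_iff]
      exact fun h => hm₀ (Nat.eq_zero_of_dvd_of_lt h he₀)
    exact Subtype.ext (by rw [← hj a, ← hj b, mul_left_cancel₀ he (ZMod.val_injective r hab)])

/-- A normal subgroup of prime order has small automizer. -/
theorem index_centralizer_le (hr : r.Prime) (ρ : Representation ℂ H (Fin n → ℂ)) (hρ : Function.Injective ρ)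
    {x : H} (hx : orderOf x = r) (hN : (Subgroup.zpowers x).Normal) :
    (Subgroup.centralizer ({x} : Set H)).index ≤ n := by
  rw [← card_conjugates]
  refine le_trans (le_of_eq (Nat.card_congr (Equiv.subtypeEquivRight fun z => ?_))) (card_conj_zpowers_le hr ρ hρ hx)
  refine ⟨fun h => ⟨?_, h⟩, fun h => h.2⟩
  obtain ⟨g, rfl⟩ := isConj_iff.1 h
  exact hN.conj_mem x (Subgroup.mem_zpowers x) g

/-- Every prime divisor `r` of the order gives `1 + (r - 1) / n` classes. -/
theorem prime_le_classes (ρ : Representation ℂ H (Fin n → ℂ)) (hρ : Function.Injective ρ) (hr : r.Prime)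
    (hdvd : r ∣ Nat.card H) : r - 1 ≤ n * (Nat.card (ConjClasses H) - 1) := by
  haveI : Fact r.Prime := ⟨hr⟩
  haveI : Finite (ConjClasses H) := Finite.of_surjective _ ConjClasses.mk_surjective
  haveI := Fintype.ofFinite (ConjClasses H)
  obtain ⟨x, hx⟩ := exists_prime_orderOf_dvd_card' r hdvd
  haveI := Fintype.ofFinite (Subgroup.zpowers x)
  have h1 : ((Finset.univ : Finset (Subgroup.zpowers x)).erase 1).card = r - 1 := by
    rw [Finset.card_erase_of_mem (Finset.mem_univ _), Finset.card_univ, ← Nat.card_eq_fintype_card,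
      Nat.card_zpowers, hx]
  rw [← h1, Nat.card_eq_fintype_card, ← Finset.card_univ,
    ← Finset.card_erase_of_mem (Finset.mem_univ (1 : ConjClasses H))]
  refine Finset.card_le_mul_card_image_of_maps_to
    (f := fun z : Subgroup.zpowers x => ConjClasses.mk (z : H)) ?_ _ fun c _ => ?_
  · intro z hz
    refine Finset.mem_erase.2 ⟨fun h => (Finset.mem_erase.1 hz).1 (Subtype.ext ?_), Finset.mem_univ _⟩
    rw [ConjClasses.one_eq_mk_one, ConjClasses.mk_eq_mk_iff_isConj, isConj_one_left] at h
    exact h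
  rcases Finset.eq_empty_or_nonempty
      (((Finset.univ : Finset (Subgroup.zpowers x)).erase 1).filter fun z : Subgroup.zpowers x => ConjClasses.mk (z : H) = c) with h | ⟨a, ha⟩
  · simp [h]
  obtain ⟨ha1, hac⟩ := Finset.mem_filter.1 ha
  have hord : orderOf (a : H) = r := by
    rw [Subgroup.orderOf_coe]
    exact ((Nat.dvd_prime hr).1 ((orderOf_dvd_natCard a).trans (by rw [Nat.card_zpowers, hx]))).resolve_left
      fun h => (Finset.mem_erase.1 ha1).1 (orderOf_eq_one_iff.1 h)
  have hzp : Subgroup.zpowers (a : H) = Subgroup.zpowers x :=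
    Subgroup.eq_of_le_of_card_ge (Subgroup.zpowers_le.2 a.2) (by rw [Nat.card_zpowers, Nat.card_zpowers, hord, hx])
  haveI := Fintype.ofFinite {z // z ∈ Subgroup.zpowers (a : H) ∧ IsConj (a : H) z}
  refine le_trans ?_ (card_conj_zpowers_le hr ρ hρ hord)
  rw [Nat.card_eq_fintype_card, ← Finset.card_univ]
  refine Finset.card_le_card_of_injOn (fun z : Subgroup.zpowers x =>
    if h : (z : H) ∈ Subgroup.zpowers (a : H) ∧ IsConj (a : H) z then
      (⟨z, h⟩ : {z // z ∈ Subgroup.zpowers (a : H) ∧ IsConj (a : H) z})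
    else ⟨a, Subgroup.mem_zpowers _, IsConj.refl _⟩) (fun _ _ => Finset.mem_univ _) ?_
  intro b hb b' hb' he
  have h1 : ∀ b ∈ (((Finset.univ : Finset (Subgroup.zpowers x)).erase 1).filter fun z : Subgroup.zpowers x => ConjClasses.mk (z : H) = c), (b : H) ∈ Subgroup.zpowers (a : H) ∧ IsConj (a : H) b := fun b hb =>
    ⟨by rw [hzp]; exact b.2, ConjClasses.mk_eq_mk_iff_isConj.1 (hac.trans (Finset.mem_filter.1 hb).2.symm)⟩
  simp only [dif_pos (h1 b (Finset.mem_coe.1 hb)), dif_pos (h1 b' (Finset.mem_coe.1 hb')), Subtype.mk.injEq] at he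
  exact Subtype.ext he

end CfsgLib.Frobenius.TwoClassPReg
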