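import Cfsg.Agent.Lib.Blocks.Eigen
import Cfsg.Agent.Lib.DegreeTools.Eigen
import Mathlib.Algebra.CharP.Quotient
import Mathlib.GroupTheory.Perm.Cycle.Type

/-!
# Elements of large prime power order in linear groups of small degree

If `n < r` and a faithful complex representation of degree `n` has an element `y` of `r`-power order,
then `y ^ (r ^ c)` lies in a normal `r`-subgroup as soon as `n ≤ r ^ c`: it acts trivially modulo `r`.
-/

set_option autoImplicit false

open scoped Classical
open Polynomial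

namespace CfsgLib.Frobenius.TwoClassPReg

open Cfsg CfsgLib CfsgLib.Blocks CfsgLib.DegreeTools.Eigen

variable {H : Type*} [Group H] [Finite H] {n r : ℕ} {M : Ideal AlgInt}

/-- The elements acting trivially modulo `M`, in terms of the character. -/
def congrKer (hM : IsPModular r M) (ρ : Representation ℂ H (Fin n → ℂ)) : Subgroup H where
  carrier := {k | ∀ g, MemLocalIdeal M (ρ.character (g * k) - ρ.character g)}
  one_mem' g := by simpa using LI.zero hM
  mul_mem' := by
    intro a b ha hb g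
    have h := LI.add hM (hb (g * a)) (ha g)
    rwa [sub_add_sub_cancel, mul_assoc] at h
  inv_mem' := by
    intro a ha g
    have h := LI.neg (ha (g * a⁻¹))
    rwa [inv_mul_cancel_right, neg_sub] at h

omit [Finite H] in
theorem congrKer_normal (hM : IsPModular r M) (ρ : Representation ℂ H (Fin n → ℂ)) :
    (congrKer hM ρ).Normal := ⟨fun k hk h g => by
  have h1 := hk (h⁻¹ * g * h)
  have e1 : ρ.character (g * (h * k * h⁻¹)) = ρ.character (h⁻¹ * g * h * k) := by
    rw [← Representation.char_conj ρ (g * (h * k * h⁻¹)) h⁻¹]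
    simp [mul_assoc]
  have e2 : ρ.character (h⁻¹ * g * h) = ρ.character g := by
    simpa using Representation.char_conj ρ g h⁻¹
  rwa [e1, ← e2]⟩

theorem isPGroup_congrKer (hM : IsPModular r M) (ρ : Representation ℂ H (Fin n → ℂ))
    (hρ : Function.Injective ρ) (hnr : n < r) : IsPGroup r (congrKer hM ρ) := by
  haveI : Fact r.Prime := ⟨hM.1⟩
  refine IsPGroup.iff_card.2 ⟨_, Nat.eq_prime_pow_of_unique_prime_dvd Nat.card_pos.ne' fun {s} hs hsd => ?_⟩
  by_contra hsr
  haveI : Fact s.Prime := ⟨hs⟩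
  obtain ⟨k, hk⟩ := exists_prime_orderOf_dvd_card' (G := congrKer hM ρ) s hsd
  have hks : (k : H) ^ s = 1 := by
    rw [← hk, ← SubgroupClass.coe_pow, pow_orderOf_eq_one]; rfl
  have hT : ρ (k : H) ^ s = 1 := by rw [← map_pow, hks, map_one]
  have hs0 : s ≠ 0 := hs.ne_zero
  set ω := Complex.exp (2 * Real.pi * Complex.I / s)
  have hω : IsPrimitiveRoot ω s := Complex.isPrimitiveRoot_exp s hs0
  have hmult : ∀ j < s, j ≠ 0 → mult (ρ (k : H)) s (ω ^ j) = 0 := by
    intro j hj hj0
    have hc : (ω ^ j) ^ s = 1 := by rw [← pow_mul, mul_comm, pow_mul, hω.pow_eq_one, one_pow]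
    have hci : ((ω ^ j)⁻¹) ^ s = 1 := by rw [inv_pow, hc, inv_one]
    have hc1 : (ω ^ j)⁻¹ ≠ 1 := fun h => by
      rw [inv_eq_one] at h
      exact hω.pow_ne_one_of_pos_of_lt hj0 hj h
    have h1 : MemLocalIdeal M (∑ i ∈ Finset.range s, ((ω ^ j)⁻¹) ^ i *
        (ρ.character ((k : H) ^ i) - ρ.character 1)) := by
      refine LI.sum hM fun i _ => LI.mul_left hM ?_ ?_
      · exact LR.of_isIntegral hM ((IsIntegral.of_pow hs.pos (by rw [hci]; exact isIntegral_one)).pow i)
      · have := ((congrKer hM ρ).pow_mem k.2 i) 1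
        rwa [one_mul] at this
    have h2 : (∑ i ∈ Finset.range s, ((ω ^ j)⁻¹) ^ i * (ρ.character ((k : H) ^ i) - ρ.character 1)) =
        ((s * mult (ρ (k : H)) s (ω ^ j) : ℕ) : ℂ) := by
      have h3 := trace_proj hT hc hs0
      rw [proj, map_smul, map_sum, smul_eq_mul, inv_mul_eq_iff_eq_mul₀ (Nat.cast_ne_zero.2 hs0)] at h3
      rw [Nat.cast_mul, ← h3]
      simp only [mul_sub, Finset.sum_sub_distrib, ← Finset.sum_mul, geom_sum_eq hc1, hci, sub_self, zero_div,
        zero_mul, sub_zero, map_smul, smul_eq_mul, Representation.character, map_pow]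
    rw [h2, LI.natCast_iff hM] at h1
    rcases hM.1.dvd_mul.1 h1 with h | h
    · exact absurd ((Nat.prime_dvd_prime_iff_eq hM.1 hs).1 h).symm hsr
    · refine Nat.eq_zero_of_dvd_of_lt h (lt_of_le_of_lt ?_ hnr)
      have h4 := sum_mult hω hT hs0
      rw [Module.finrank_fin_fun] at h4
      calc mult (ρ (k : H)) s (ω ^ j) ≤ _ := Finset.single_le_sum (f := fun i => mult (ρ (k : H)) s (ω ^ i))
            (fun _ _ => Nat.zero_le _) (Finset.mem_range.2 hj)
        _ = n := h4
  have h5 := eq_smul_of_mult_eq_zero hω hT hs0 hs.pos hmult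
  rw [pow_zero, one_smul, ← map_one ρ] at h5
  have h6 : k = 1 := Subtype.ext (hρ h5)
  rw [h6, orderOf_one] at hk
  exact hs.one_lt.ne hk

theorem pow_mem_congrKer (hM : IsPModular r M) (ρ : Representation ℂ H (Fin n → ℂ))
    {y : H} {b c : ℕ} (hy : y ^ r ^ b = 1) (hc : n ≤ r ^ c) : y ^ r ^ c ∈ congrKer hM ρ := by
  haveI : Fact r.Prime := ⟨hM.1⟩
  set N := r ^ b
  set m := r ^ c
  have hN : N ≠ 0 := pow_ne_zero _ hM.1.ne_zero
  set ω := Complex.exp (2 * Real.pi * Complex.I / N)
  have hω : IsPrimitiveRoot ω N := Complex.isPrimitiveRoot_exp N hN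
  have hT : ρ y ^ N = 1 := by rw [← map_pow, hy, map_one]
  set w : AlgInt := ⟨ω, IsIntegral.of_pow (Nat.pos_of_ne_zero hN) (by rw [hω.pow_eq_one]; exact isIntegral_one)⟩
  set S := (Finset.range N).filter fun k => mult (ρ y) N (ω ^ k) ≠ 0
  have hScard : S.card ≤ n := by
    have h4 := sum_mult hω hT hN
    rw [Module.finrank_fin_fun] at h4
    rw [← h4, Finset.card_eq_sum_ones]
    refine (Finset.sum_le_sum fun k hk => ?_).trans (Finset.sum_le_sum_of_subset (Finset.filter_subset _ _))
    exact Nat.one_le_iff_ne_zero.2 (Finset.mem_filter.1 hk).2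
  set Q : AlgInt[X] := ∏ k ∈ S, (X - C (w ^ k))
  have hQ : Q.Monic := monic_prod_of_monic _ _ fun k _ => monic_X_sub_C _
  set R := (X ^ m - 1) %ₘ Q with hR
  haveI hmax := hM.2.1
  haveI : CharP (AlgInt ⧸ M) r := by
    haveI := Ideal.Quotient.nontrivial_iff.2 hmax.ne_top
    refine CharP.charP_iff_prime_eq_zero hM.1 |>.2 ?_
    rw [← map_natCast (Ideal.Quotient.mk M), Ideal.Quotient.eq_zero_iff_mem]
    exact hM.2.2
  haveI : IsDomain (AlgInt ⧸ M) := Ideal.Quotient.isDomain M
  set q := Ideal.Quotient.mk M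
  have hw : q w = 1 := by
    have h1 : (q w - 1) ^ N = 0 := by
      rw [sub_pow_char_pow, one_pow, ← map_pow, show w ^ N = 1 from Subtype.ext (by
        rw [SubmonoidClass.coe_pow]; exact hω.pow_eq_one), map_one, sub_self]
    exact sub_eq_zero.1 (eq_zero_of_pow_eq_zero h1)
  have hR0 : R.map q = 0 := by
    rw [hR, Polynomial.map_modByMonic q hQ]
    have e1 : Q.map q = (X - C 1) ^ S.card := by
      simp [Q, Polynomial.map_prod, hw]
    have e2 : (X ^ m - 1 : AlgInt[X]).map q = (X - C 1) ^ m := by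
      haveI : CharP ((AlgInt ⧸ M)[X]) r := inferInstance
      rw [Polynomial.map_sub, Polynomial.map_pow, map_X, Polynomial.map_one, map_one]
      exact ((sub_pow_char_pow (X : (AlgInt ⧸ M)[X]) 1 c (p := r)).trans (by rw [one_pow])).symm
    rw [e1, e2, (Polynomial.modByMonic_eq_zero_iff_dvd ((monic_X_sub_C 1).pow _)).2 (pow_dvd_pow _ (hScard.trans hc))]
  have hRmem : ∀ i, R.coeff i ∈ M := fun i => by
    rw [← Ideal.Quotient.eq_zero_iff_mem, ← Polynomial.coeff_map, hR0, Polynomial.coeff_zero]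
  intro g
  -- the values on the powers through the eigenprojections
  set d : ℕ → ℂ := fun k => LinearMap.trace ℂ (Fin n → ℂ) (ρ g * proj (ρ y) N (ω ^ k))
  have hval : ∀ j, ρ.character (g * y ^ j) = ∑ k ∈ Finset.range N, d k * ω ^ (k * j) := by
    intro j
    rw [Representation.character, map_mul, map_pow, ← sum_pow_smul_proj hω hT hN j, Finset.mul_sum, map_sum]
    refine Finset.sum_congr rfl fun k _ => ?_
    rw [mul_smul_comm, map_smul, smul_eq_mul, mul_comm]
  have hd : ∀ k ∈ Finset.range N, k ∉ S → d k = 0 := by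
    intro k hk hkS
    have h1 : mult (ρ y) N (ω ^ k) = 0 := by
      by_contra h
      exact hkS (Finset.mem_filter.2 ⟨hk, h⟩)
    have h2 : proj (ρ y) N (ω ^ k) = 0 := by
      rw [← LinearMap.range_eq_bot]; exact Submodule.finrank_eq_zero.mp h1
    simp [d, h2]
  have hroot : ∀ k ∈ S, ω ^ (k * m) - 1 =
      ∑ i ∈ Finset.range (R.natDegree + 1), (R.coeff i : ℂ) * ω ^ (k * i) := by
    intro k hk
    have h1 : Q.eval (w ^ k) = 0 := by
      rw [Polynomial.eval_prod]
      exact Finset.prod_eq_zero hk (by simp)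
    have h2 : (X ^ m - 1 : AlgInt[X]).eval (w ^ k) = R.eval (w ^ k) := by
      conv_lhs => rw [← Polynomial.modByMonic_add_div (X ^ m - 1) Q]
      rw [eval_add, eval_mul, h1, zero_mul, add_zero]
    rw [Polynomial.eval_eq_sum_range (p := R), eval_sub, eval_pow, eval_X, eval_one, ← pow_mul] at h2
    have h3 := congrArg (fun z : AlgInt => (z : ℂ)) h2
    simpa [w, ← pow_mul] using h3
  have hkey : ρ.character (g * y ^ m) - ρ.character g =
      ∑ i ∈ Finset.range (R.natDegree + 1), (R.coeff i : ℂ) * ρ.character (g * y ^ i) := by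
    conv_lhs => rw [hval, show ρ.character g = ρ.character (g * y ^ 0) by simp, hval, ← Finset.sum_sub_distrib]
    simp only [hval, Finset.mul_sum]
    rw [Finset.sum_comm]
    refine Finset.sum_congr rfl fun k hk => ?_
    by_cases hkS : k ∈ S
    · rw [mul_zero, pow_zero, mul_one, ← mul_sub_one, hroot k hkS, Finset.mul_sum]
      exact Finset.sum_congr rfl fun i _ => by ring
    · simp [hd k hk hkS]
  rw [hkey]
  refine LI.sum hM fun i _ => LI.mul_right hM (LI.of_mem hM (hRmem i)) ?_
  exact LR.of_isIntegral hM (CharDeep.IrrTools.isIntegral_character ρ _)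

/-- An element of `r`-power order has a power in a normal `r`-subgroup. -/
theorem exists_normal_isPGroup (hr : r.Prime) (hnr : n < r) (ρ : Representation ℂ H (Fin n → ℂ))
    (hρ : Function.Injective ρ) {y : H} {b c : ℕ} (hy : y ^ r ^ b = 1) (hc : n ≤ r ^ c) :
    ∃ K : Subgroup H, K.Normal ∧ IsPGroup r K ∧ y ^ r ^ c ∈ K := by
  obtain ⟨M, hM⟩ := exists_isPModular hr
  exact ⟨congrKer hM ρ, congrKer_normal hM ρ, isPGroup_congrKer hM ρ hρ hnr, pow_mem_congrKer hM ρ hy hc⟩

end CfsgLib.Frobenius.TwoClassPReg
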