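import Cfsg.Agent.NumberTheory.PrimitivePart
import Mathlib.NumberTheory.PrimeCounting
import Mathlib.Data.Nat.Squarefree

/-!
# Primitive prime divisors larger than `2 n + 1` or occurring twice
-/

set_option autoImplicit false

namespace CfsgLib.Frobenius.TwoClassPReg

open CfsgLib.NT

/-- The check on one pair. -/
def chkBig (q n : ℕ) : Bool :=
  let m := primPartComp q n
  (q == 5 && n == 6) || (q == 17 && n == 6) ||
    ((q ^ n - 1) % m == 0 && decide ((n + 1) * (2 * n + 1) % m ≠ 0) &&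
      (List.range n).all fun i => i == 0 || Nat.gcd m (q ^ i - 1) == 1)

/-- The check on all the small pairs. -/
def chkBigTable : Bool :=
  (List.range 39).all fun n =>
    decide (n < 3) ||
      let f := n.totient
      decide (10 ≤ f) ||
        [5, 7, 11, 13, 17, 19, 23, 29, 31, 37, 41, 43].all fun q =>
          decide (4 * n * ((n + 1) * (2 * n + 1)) < q ^ f) || chkBig q n

theorem chkBigTable_eq : chkBigTable = true := by decide +kernel

theorem bound_of_ten_le {q n : ℕ} (hq : 5 ≤ q) (hn : 3 ≤ n) (hphi : 10 ≤ n.totient) :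
    4 * n * ((n + 1) * (2 * n + 1)) < q ^ n.totient := by
  have h := two_mul_cube_le_totient_pow_four n
  have hpow : ∀ f : ℕ, 10 ≤ f → 190 * f ^ 4 ≤ 5 ^ f := by
    intro f hf
    induction f, hf using Nat.le_induction with
    | base => norm_num
    | succ f hf ih =>
      have e : (10 * (f + 1)) ^ 4 ≤ (11 * f) ^ 4 := Nat.pow_le_pow_left (by omega) 4
      rw [mul_pow, mul_pow] at e
      have e3 : (f + 1) ^ 4 ≤ 5 * f ^ 4 := by linarith [Nat.zero_le (f ^ 4)]
      calc 190 * (f + 1) ^ 4 ≤ 5 * (190 * f ^ 4) := by linarith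
        _ ≤ 5 * 5 ^ f := by linarith
        _ = 5 ^ (f + 1) := by ring
  have h1 := (hpow _ hphi).trans (Nat.pow_le_pow_left hq n.totient)
  have h2 : 4 * n * ((n + 1) * (2 * n + 1)) ≤ 14 * n ^ 3 := by
    nlinarith [Nat.mul_le_mul_right (n * n) hn, Nat.mul_le_mul_right n hn]
  have h3 : 0 < n.totient ^ 4 := pow_pos (by omega) 4
  linarith

/-- A primitive divisor not dividing `(n + 1) (2 n + 1)`. -/
theorem exists_primitive_not_dvd {q n : ℕ} (hq : q.Prime) (hq5 : 5 ≤ q) (hn : 3 ≤ n)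
    (hex : ¬ ((q = 5 ∨ q = 17) ∧ n = 6)) :
    ∃ M : ℕ, M ∣ q ^ n - 1 ∧ (∀ i : ℕ, 1 ≤ i → i < n → Nat.Coprime M (q ^ i - 1)) ∧
      ¬ M ∣ (n + 1) * (2 * n + 1) := by
  by_cases hbig : 4 * n * ((n + 1) * (2 * n + 1)) < q ^ n.totient
  · obtain ⟨M, h1, h2, h3⟩ := exists_primitive_divisor_ge (q := q) (by omega) hn
    exact ⟨M, h1, h2, fun h => by
      have := Nat.lt_of_mul_lt_mul_left (hbig.trans_le h3)
      have := Nat.le_of_dvd (by positivity) h
      omega⟩
  have hphi : n.totient ≤ 9 := by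
    by_contra h
    exact hbig (bound_of_ten_le hq5 hn (by omega))
  have heven := Nat.totient_even (show 2 < n by omega)
  have hphi8 : n.totient ≤ 8 := by
    obtain ⟨c, hc⟩ := heven
    omega
  have hn38 : n ≤ 38 := by
    have h1 := two_mul_cube_le_totient_pow_four n
    have h2 : n.totient ^ 4 ≤ 8 ^ 4 := Nat.pow_le_pow_left hphi8 4
    by_contra hc
    have h3 : 39 ^ 3 ≤ n ^ 3 := Nat.pow_le_pow_left (by omega) 3
    omega
  have hq47 : q < 47 := by
    by_contra hc
    apply hbig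
    have hphi2 : 2 ≤ n.totient := by
      obtain ⟨c, hc⟩ := heven
      have := Nat.totient_pos.2 (show 0 < n by omega)
      omega
    rcases Nat.lt_or_ge n 7 with h7 | h7
    · calc 4 * n * ((n + 1) * (2 * n + 1)) < 47 ^ 2 := by interval_cases n <;> norm_num
        _ ≤ 47 ^ n.totient := Nat.pow_le_pow_right (by norm_num) hphi2
        _ ≤ q ^ n.totient := Nat.pow_le_pow_left (by omega) _
    · have h4 : 4 ≤ n.totient := by
        have h := two_mul_cube_le_totient_pow_four n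
        by_contra h4
        obtain ⟨c, hc⟩ := heven
        have : n.totient = 2 := by omega
        rw [this] at h
        have : 7 ^ 3 ≤ n ^ 3 := Nat.pow_le_pow_left h7 3
        omega
      have h2 : 4 * n * ((n + 1) * (2 * n + 1)) ≤ 14 * n ^ 3 := by
        nlinarith [Nat.mul_le_mul_right (n * n) hn, Nat.mul_le_mul_right n hn]
      have h3 : n ^ 3 ≤ 38 ^ 3 := Nat.pow_le_pow_left hn38 3
      calc 4 * n * ((n + 1) * (2 * n + 1)) < 47 ^ 4 := by omega
        _ ≤ 47 ^ n.totient := Nat.pow_le_pow_right (by norm_num) h4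
        _ ≤ q ^ n.totient := Nat.pow_le_pow_left (by omega) _
  have h := chkBigTable_eq
  unfold chkBigTable at h
  rw [List.all_eq_true] at h
  have h1 := h n (List.mem_range.2 (by omega))
  simp only [Bool.or_eq_true, decide_eq_true_eq, List.all_eq_true] at h1
  rcases h1 with h1 | h1 | h1
  · omega
  · omega
  have hmem : q ∈ [5, 7, 11, 13, 17, 19, 23, 29, 31, 37, 41, 43] :=
    (by decide +kernel : ∀ x < 47, 5 ≤ x → x.Prime → x ∈ [5, 7, 11, 13, 17, 19, 23, 29, 31, 37, 41, 43])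
      q hq47 hq5 hq
  rcases h1 q hmem with h2 | h2
  · exact absurd h2 hbig
  simp only [chkBig, Bool.or_eq_true, Bool.and_eq_true, decide_eq_true_eq, beq_iff_eq, List.all_eq_true] at h2
  rcases h2 with (⟨rfl, rfl⟩ | ⟨rfl, rfl⟩) | ⟨⟨h3, h4⟩, h5⟩
  · exact absurd ⟨Or.inl rfl, rfl⟩ hex
  · exact absurd ⟨Or.inr rfl, rfl⟩ hex
  refine ⟨_, Nat.dvd_of_mod_eq_zero h3, fun i hi hin => ?_, fun h => h4 (Nat.mod_eq_zero_of_dvd h)⟩
  rcases h5 i (List.mem_range.2 hin) with h6 | h6
  · omega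
  · exact h6

/-- A primitive prime divisor greater than `2 n + 1` or dividing twice. -/
theorem exists_big_ppd {q n : ℕ} (hq : q.Prime) (hq5 : 5 ≤ q) (hn : 3 ≤ n)
    (hex : ¬ ((q = 5 ∨ q = 17) ∧ n = 6)) :
    ∃ r : ℕ, r.Prime ∧ r ∣ q ^ n - 1 ∧ (∀ i : ℕ, 0 < i → i < n → ¬ r ∣ q ^ i - 1) ∧
      (2 * n + 1 < r ∨ r ^ 2 ∣ q ^ n - 1) := by
  obtain ⟨M, hM1, hM2, hM3⟩ := exists_primitive_not_dvd hq hq5 hn hex
  by_contra hall
  push Not at hall
  have hM0 : M ≠ 0 := fun h => by
    have h1 := Nat.eq_zero_of_zero_dvd (h ▸ hM1)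
    have := Nat.one_lt_pow (show n ≠ 0 by omega) (show 1 < q by omega)
    omega
  have hprim : ∀ r, r.Prime → r ∣ M → r ∣ q ^ n - 1 ∧ ∀ i : ℕ, 0 < i → i < n → ¬ r ∣ q ^ i - 1 :=
    fun r hr hrM => primitive_of_dvd_primitive_part hr hM1 hM2 hrM
  have hsq : Squarefree M := Nat.squarefree_iff_prime_squarefree.2 fun r hr h => by
    obtain ⟨a, b⟩ := hprim r hr ((dvd_mul_right r r).trans h)
    exact (hall r hr a b).2 (sq r ▸ h.trans hM1)
  refine hM3 ?_
  rw [← Nat.prod_primeFactors_of_squarefree hsq]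
  refine Finset.prod_primes_dvd _ (fun r hr => (Nat.prime_of_mem_primeFactors hr).prime) fun r hr => ?_
  have hrp := Nat.prime_of_mem_primeFactors hr
  obtain ⟨a, b⟩ := hprim r hrp (Nat.dvd_of_mem_primeFactors hr)
  have h1 := (hall r hrp a b).1
  obtain ⟨c, hc⟩ := primitive_dvd_sub_one (q := q) (by omega) (show 1 ≤ n by omega) hrp a b
  have := hrp.two_le
  have hc2 : c ≤ 2 := by
    by_contra h
    have := Nat.mul_le_mul_left n (show 3 ≤ c by omega)
    omega
  interval_cases c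
  · omega
  · exact Dvd.dvd.mul_right (dvd_of_eq (by omega)) _
  · exact Dvd.dvd.mul_left (dvd_of_eq (by omega)) _

end CfsgLib.Frobenius.TwoClassPReg
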