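import Cfsg.Agent.Lib.Frobenius.TwoClassPReg.Lift
import Cfsg.Agent.Lib.Frobenius.TwoClassPReg.Congr
import Cfsg.Agent.Lib.Frobenius.TwoClassPReg.ClassCount
import Cfsg.Agent.Lib.Frobenius.TwoClassPReg.PPD
import Cfsg.Agent.S4503
import Cfsg.Agent.S2638

/-!
# Transitive linear `p'`-groups in dimension at least three have at least `p` classes
-/

set_option autoImplicit false

open scoped Classical
open Matrix

namespace CfsgLib.Frobenius.TwoClassPReg

/-- `H` acts through `ρ` transitively on the non-zero vectors. -/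
def TransNonzero {p n : ℕ} {H : Type*} [Group H] (ρ : H →* GL (Fin n) (ZMod p)) : Prop :=
  ∀ v w : Fin n → ZMod p, v ≠ 0 → w ≠ 0 → ∃ h : H, (ρ h : Matrix (Fin n) (Fin n) (ZMod p)) *ᵥ v = w

variable {p n : ℕ} [hp : Fact p.Prime] {H : Type*} [Group H] [Finite H] {ρ : H →* GL (Fin n) (ZMod p)}

/-- The order is divisible by the number of non-zero vectors. -/
theorem pow_sub_one_dvd_card (hn : 0 < n) (ht : TransNonzero ρ) : p ^ n - 1 ∣ Nat.card H := by
  letI : MulAction H (Fin n → ZMod p) :=
    { smul := fun h v => (ρ h : Matrix (Fin n) (Fin n) (ZMod p)) *ᵥ v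
      one_smul := fun v => by show (ρ 1 : Matrix (Fin n) (Fin n) (ZMod p)) *ᵥ v = v; simp
      mul_smul := fun g h v => by
        show (ρ (g * h) : Matrix (Fin n) (Fin n) (ZMod p)) *ᵥ v
          = (ρ g : Matrix (Fin n) (Fin n) (ZMod p)) *ᵥ ((ρ h : Matrix (Fin n) (Fin n) (ZMod p)) *ᵥ v)
        rw [map_mul, Units.val_mul, Matrix.mulVec_mulVec] }
  set v : Fin n → ZMod p := Pi.single ⟨0, hn⟩ 1
  have hv : v ≠ 0 := fun h => by simpa [v] using congrFun h ⟨0, hn⟩
  have horb : MulAction.orbit H v = {w | w ≠ 0} := by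
    ext w
    refine ⟨?_, fun hw => ht v w hv hw⟩
    rintro ⟨h, rfl⟩ h0
    refine hv ?_
    rw [← one_smul H v, ← inv_mul_cancel h, mul_smul, show h • v = 0 from h0]
    exact Matrix.mulVec_zero _
  have hcard : Nat.card (MulAction.orbit H v) = p ^ n - 1 := by
    rw [horb, ← Nat.card_congr (Equiv.refl _), Set.coe_setOf, Nat.card_eq_fintype_card, Fintype.card_subtype_compl,
      Fintype.card_subtype_eq, Fintype.card_fun, ZMod.card, Fintype.card_fin]
  rw [← hcard, Nat.card_congr (MulAction.orbitEquivQuotientStabilizer H v)]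
  exact (MulAction.stabilizer H v).index_dvd_card

/-- With as few elements as non-zero vectors, only the identity fixes a non-zero vector. -/
theorem regular_of_card (hn : 0 < n) (ht : TransNonzero ρ) (hcard : Nat.card H = p ^ n - 1) (h : H)
    (v : Fin n → ZMod p) (hv : v ≠ 0) (hh : (ρ h : Matrix (Fin n) (Fin n) (ZMod p)) *ᵥ v = v) : h = 1 := by
  let f : H → {w : Fin n → ZMod p // w ≠ 0} := fun g => ⟨(ρ g : Matrix (Fin n) (Fin n) (ZMod p)) *ᵥ v, fun h0 => hv (by
    have h1 := congrArg (fun u => (ρ g⁻¹ : Matrix (Fin n) (Fin n) (ZMod p)) *ᵥ u) h0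
    simpa [Matrix.mulVec_mulVec, ← Units.val_mul] using h1)⟩
  have hf : Function.Surjective f := fun w => by
    obtain ⟨g, hg⟩ := ht v w hv w.2
    exact ⟨g, Subtype.ext hg⟩
  haveI := Fintype.ofFinite H
  have hc : Fintype.card H = Fintype.card {w : Fin n → ZMod p // w ≠ 0} := by
    rw [← Nat.card_eq_fintype_card, hcard, Fintype.card_subtype_compl, Fintype.card_subtype_eq, Fintype.card_fun,
      ZMod.card, Fintype.card_fin]
  refine ((Fintype.bijective_iff_surjective_and_card f).2 ⟨hf, hc⟩).1 (Subtype.ext ?_)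
  simpa [f] using hh

/-- An element of primitive prime order has an abelian centralizer, indeed a cyclic one. -/
theorem centralizer_cyclic (hρ : Function.Injective ρ) (hn : 1 ≤ n) {r : ℕ} (hr : r.Prime) (hrp : r ≠ p)
    (hi : orderOf (p : ZMod r) = n) {x : H} (hx : orderOf x = r) :
    IsCyclic (Subgroup.centralizer ({x} : Set H)) := by
  have hxo : orderOf (ρ x) = r := by rw [orderOf_injective ρ hρ, hx]
  obtain ⟨hc, -⟩ := Cfsg.Agent.S2638.result (q := p) (ZMod.card p) hn hr hrp hi (ρ x) hxo
  refine @isCyclic_of_injective _ _ _ _ hc ((ρ.comp (Subgroup.subtype _)).codRestrict _ fun y => ?_) ?_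
  · refine Subgroup.mem_centralizer_singleton_iff.2 ?_
    show ρ (y : H) * ρ x = ρ x * ρ (y : H)
    rw [← map_mul, ← map_mul, Subgroup.mem_centralizer_singleton_iff.1 y.2]
  · exact fun a b h => Subtype.ext (hρ (congrArg Subtype.val h))

open CfsgLib.DegreeTools.Eigen in
/-- Only the identity map has the trace of the identity. -/
theorem eq_one_of_character_eq (σ : Representation ℂ H (Fin n → ℂ)) (g : H)
    (hg : σ.character g = σ.character 1) : σ g = 1 := by
  set N := orderOf g
  have hN : N ≠ 0 := (orderOf_pos g).ne'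
  set ω := Complex.exp (2 * Real.pi * Complex.I / N)
  have hω : IsPrimitiveRoot ω N := Complex.isPrimitiveRoot_exp N hN
  have hT : σ g ^ N = 1 := by rw [← map_pow, pow_orderOf_eq_one, map_one]
  have h1 := char_pow_eq_sum σ g hω hN (pow_orderOf_eq_one g) 1
  have h0 := char_pow_eq_sum σ g hω hN (pow_orderOf_eq_one g) 0
  rw [pow_one, hg] at h1
  rw [pow_zero, h1] at h0
  have hre := congrArg Complex.re h0
  simp only [mul_one, mul_zero, pow_zero, Complex.re_sum, Complex.mul_re, Complex.natCast_im, zero_mul, sub_zero, Complex.natCast_re] at hre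
  have hle : ∀ j ∈ Finset.range N, (mult (σ g) N (ω ^ j) : ℝ) * (ω ^ j).re ≤ mult (σ g) N (ω ^ j) := fun j _ =>
    mul_le_of_le_one_right (Nat.cast_nonneg _) ((Complex.re_le_norm _).trans (le_of_eq
      (Complex.norm_eq_one_of_pow_eq_one (by rw [← pow_mul, mul_comm, pow_mul, hω.pow_eq_one, one_pow]) hN)))
  have heq := (Finset.sum_eq_sum_iff_of_le hle).1 hre
  have h := eq_smul_of_mult_eq_zero hω hT hN (k₀ := 0) (orderOf_pos g) fun j hj hj0 => by
    by_contra hm
    have h2 : (ω ^ j).re = 1 :=
      mul_left_cancel₀ (Nat.cast_ne_zero.2 hm) ((heq j (Finset.mem_range.2 hj)).trans (mul_one _).symm)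
    have h3 : ‖ω ^ j‖ = 1 :=
      Complex.norm_eq_one_of_pow_eq_one (by rw [← pow_mul, mul_comm, pow_mul, hω.pow_eq_one, one_pow]) hN
    have h4 := congrArg (fun t : ℝ => t ^ 2) h3
    simp only [Complex.sq_norm, Complex.normSq_apply, h2, one_pow] at h4
    exact hω.pow_ne_one_of_pos_of_lt hj0 hj (Complex.ext (by simpa using h2) (by simp; nlinarith))
  rwa [pow_zero, one_smul] at h

/-- A primitive prime dividing the order twice, or greater than `2 n + 1`, gives a normal subgroup of that
order. -/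
theorem exists_normal_order (hH : ¬ p ∣ Nat.card H) (hρ : Function.Injective ρ) (hn : 1 ≤ n) {r : ℕ} (hr : r.Prime)
    (hrp : r ≠ p) (hi : orderOf (p : ZMod r) = n) (hdvd : r ∣ Nat.card H)
    (hbig : 2 * n + 1 < r ∨ r ^ 2 ∣ Nat.card H) :
    ∃ x : H, orderOf x = r ∧ (Subgroup.zpowers x).Normal := by
  haveI : Fact r.Prime := ⟨hr⟩
  obtain ⟨σ, hσ⟩ := exists_complex_lift hH ρ hρ
  by_cases hsq : r ^ 2 ∣ Nat.card H
  · have hnr : n < r := by
      have h1 : n ∣ r - 1 := hi ▸ CfsgLib.NT.orderOf_dvd_prime_sub_one hr fun h =>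
        hrp ((Nat.prime_dvd_prime_iff_eq hr hp.out).1 h)
      have := hr.two_le
      have := Nat.le_of_dvd (by omega) h1
      omega
    let R : Sylow r H := default
    set a := (Nat.card H).factorization r
    have hRc : Nat.card (R : Subgroup H) = r ^ a := R.card_eq_multiplicity
    have ha : 2 ≤ a := (hr.pow_dvd_iff_le_factorization Nat.card_pos.ne').1 hsq
    haveI : Nontrivial (R : Subgroup H) := by
      rw [← Finite.one_lt_card_iff_nontrivial, hRc]
      exact Nat.one_lt_pow (by omega) hr.one_lt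
    haveI := R.2.center_nontrivial
    obtain ⟨⟨z, hzc⟩, hzo⟩ := exists_prime_orderOf_dvd_card' (G := Subgroup.center (R : Subgroup H)) r (by
      obtain ⟨k, hk⟩ := IsPGroup.iff_card.1 (R.2.to_subgroup (Subgroup.center (R : Subgroup H)))
      rw [hk]
      refine dvd_pow_self r fun h0 => ?_
      rw [h0, pow_zero] at hk
      exact (Finite.one_lt_card_iff_nontrivial.2 inferInstance).ne' hk)
    have hzo' : orderOf (z : H) = r := by
      rw [Subgroup.orderOf_coe]; simpa [← Subgroup.orderOf_coe] using hzo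
    haveI := centralizer_cyclic hρ hn hr hrp hi hzo'
    haveI hRcyc : IsCyclic (R : Subgroup H) :=
      isCyclic_of_injective (Subgroup.inclusion (show (R : Subgroup H) ≤ Subgroup.centralizer ({(z : H)} : Set H)
        from fun u hu => Subgroup.mem_centralizer_singleton_iff.2
          (congrArg Subtype.val (Subgroup.mem_center_iff.1 hzc ⟨u, hu⟩)))) (Subgroup.inclusion_injective _)
    obtain ⟨y, hy⟩ := IsCyclic.exists_ofOrder_eq_natCard (α := (R : Subgroup H))
    rw [hRc] at hy
    obtain ⟨K, hK, hKp, hyK⟩ := exists_normal_isPGroup hr hnr σ hσ (y := (y : H)) (b := a) (c := a - 1)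
      (by rw [← hy, Subgroup.orderOf_coe y |>.symm, pow_orderOf_eq_one])
      (hnr.le.trans (Nat.le_self_pow (by omega) r))
    set x := (y : H) ^ r ^ (a - 1)
    have hx : orderOf x = r := by
      rw [orderOf_pow' _ (pow_ne_zero _ hr.ne_zero), Subgroup.orderOf_coe, hy,
        Nat.gcd_eq_right (pow_dvd_pow r (by omega)), Nat.pow_div (by omega) hr.pos,
        show a - (a - 1) = 1 by omega, pow_one]
    refine ⟨x, hx, ⟨fun w hw g => ?_⟩⟩
    have hKR : K ≤ R := hKp.le_sylow_of_normal R
    haveI : IsCyclic K := isCyclic_of_injective (Subgroup.inclusion hKR) (Subgroup.inclusion_injective _)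
    have hwK : ∀ w ∈ Subgroup.zpowers x, g * w * g⁻¹ ∈ K := fun w hw =>
      hK.conj_mem w ((Subgroup.zpowers_le.2 hyK) hw) g
    haveI := Fintype.ofFinite K
    have hsub : (Finset.univ.filter fun u : K => u ^ r = 1) =
        (Finset.univ.filter fun u : K => (u : H) ∈ Subgroup.zpowers x) := by
      refine (Finset.eq_of_subset_of_card_le (fun u hu => ?_) ?_).symm
      · simp only [Finset.mem_filter, Finset.mem_univ, true_and] at hu ⊢
        refine Subtype.ext ?_
        rw [SubgroupClass.coe_pow, OneMemClass.coe_one, ← orderOf_dvd_iff_pow_eq_one, ← hx]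
        exact orderOf_dvd_of_mem_zpowers hu
      · refine (IsCyclic.card_pow_eq_one_le hr.pos).trans ?_
        rw [← Fintype.card_subtype, ← Nat.card_eq_fintype_card, ← hx, ← Nat.card_zpowers]
        exact (Nat.card_congr ((Subgroup.subgroupOfEquivOfLe (Subgroup.zpowers_le.2 hyK)).symm.toEquiv.trans
          (Equiv.subtypeEquivRight fun _ => Subgroup.mem_subgroupOf))).le
    have h1 : (⟨g * w * g⁻¹, hwK w hw⟩ : K) ∈ Finset.univ.filter fun u : K => u ^ r = 1 := by
      rw [Finset.mem_filter]
      refine ⟨Finset.mem_univ _, Subtype.ext ?_⟩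
      have : w ^ r = 1 := by
        rw [← orderOf_dvd_iff_pow_eq_one, ← hx]; exact orderOf_dvd_of_mem_zpowers hw
      simp [conj_pow, this]
    rw [hsub, Finset.mem_filter] at h1
    exact h1.2
  · by_contra hno
    push Not at hno
    have hdeg : Cfsg.charDegree σ.character = n := by
      simp [Cfsg.charDegree, Representation.char_one]
    have hfaith : ∀ g : H, σ.character g = σ.character 1 → g = 1 := fun g hg => hσ (by
      rw [map_one]; exact eq_one_of_character_eq σ g hg)
    have := Cfsg.Agent.S4503.result r hr hdvd hsq (fun N hN hNc => by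
      obtain ⟨x, hx⟩ := exists_prime_orderOf_dvd_card' (G := N) r (dvd_of_eq hNc.symm)
      refine hno (x : H) (by rw [Subgroup.orderOf_coe, hx]) ?_
      rwa [Subgroup.eq_of_le_of_card_ge (Subgroup.zpowers_le.2 x.2)
        (by rw [Nat.card_zpowers, Subgroup.orderOf_coe, hx, hNc])])
      σ.character (CfsgLib.Char.isCharacter_of_rep σ) hfaith
    rw [hdeg] at this
    rcases hbig with h | h
    · omega
    · exact hsq h

/-- At least `p` classes in dimension at least three. -/
theorem le_card_conjClasses_of_three_le (hH : ¬ p ∣ Nat.card H) (hρ : Function.Injective ρ) (ht : TransNonzero ρ)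
    (hp5 : 5 ≤ p) (hn : 3 ≤ n) : p ≤ Nat.card (ConjClasses H) := by
  have hdvd := pow_sub_one_dvd_card (by omega) ht
  obtain ⟨σ, hσ⟩ := exists_complex_lift hH ρ hρ
  haveI : Finite (ConjClasses H) := Finite.of_surjective _ ConjClasses.mk_surjective
  have hk : 0 < Nat.card (ConjClasses H) := Nat.card_pos
  by_cases hex : (p = 5 ∨ p = 17) ∧ n = 6
  · obtain ⟨hp', rfl⟩ := hex
    rcases hp' with rfl | rfl
    · have := prime_le_classes σ hσ (show (31).Prime by norm_num) ((show 31 ∣ 5 ^ 6 - 1 by norm_num).trans hdvd)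
      omega
    · have := prime_le_classes σ hσ (show (307).Prime by norm_num) ((show 307 ∣ 17 ^ 6 - 1 by norm_num).trans hdvd)
      omega
  obtain ⟨r, hr, hrd, hprim, hbig⟩ := exists_big_ppd hp.out hp5 hn hex
  have hrp : r ≠ p := fun h =>
    CfsgLib.NT.primitive_not_dvd_base (q := p) (n := n) (by omega) (by omega) hr hrd (dvd_of_eq h)
  have hi : orderOf (p : ZMod r) = n := by
    have h1 := (CfsgLib.NT.dvd_pow_sub_one_iff_orderOf (q := p) (by omega)).1 hrd
    refine Nat.le_antisymm (Nat.le_of_dvd (by omega) h1) (not_lt.1 fun hlt => ?_)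
    exact hprim _ (Nat.pos_of_dvd_of_pos h1 (by omega)) hlt
      ((CfsgLib.NT.dvd_pow_sub_one_iff_orderOf (q := p) (by omega)).2 dvd_rfl)
  obtain ⟨x, hx, hN⟩ := exists_normal_order hH hρ (by omega) hr hrp hi (hrd.trans hdvd)
    (hbig.imp_right fun h => h.trans hdvd)
  have hidx := index_centralizer_le hr σ hσ hx hN
  haveI := centralizer_cyclic hρ (by omega) hr hrp hi hx
  letI := IsCyclic.commGroup (α := Subgroup.centralizer ({x} : Set H))
  have hA := card_le_card_conjClasses_mul_index (Subgroup.centralizer ({x} : Set H)) fun a ha b hb =>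
    congrArg Subtype.val (mul_comm (⟨a, ha⟩ : Subgroup.centralizer ({x} : Set H)) ⟨b, hb⟩)
  have hcard := (Subgroup.centralizer ({x} : Set H)).card_mul_index
  have hle := Nat.le_of_dvd Nat.card_pos hdvd
  set k := Nat.card (ConjClasses H)
  have h1 : p ^ n - 1 ≤ k * (n * n) := by
    rw [← hcard] at hle
    refine hle.trans ((Nat.mul_le_mul (hA.trans (Nat.mul_le_mul_left k hidx)) hidx).trans (le_of_eq ?_))
    ring
  by_contra hlt
  have hk' : k ≤ p - 1 := by omega
  have h2 : ∀ m : ℕ, 3 ≤ m → m * m + 1 ≤ p ^ (m - 1) := by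
    intro m hm
    induction m, hm using Nat.le_induction with
    | base => exact le_trans (by norm_num) (Nat.pow_le_pow_left hp5 2)
    | succ m hm ih =>
      rw [show m + 1 - 1 = (m - 1) + 1 by omega, pow_succ]
      nlinarith
  have h3 : (p - 1) * p ^ (n - 1) ≤ p ^ n - 1 := by
    have : p ^ n = p * p ^ (n - 1) := by rw [← pow_succ', show n - 1 + 1 = n by omega]
    rw [Nat.sub_mul, one_mul, this]
    have := Nat.one_le_pow (n - 1) p hp.out.pos
    omega
  have h4 := h3.trans (h1.trans (Nat.mul_le_mul_right (n * n) hk'))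
  have h5 := Nat.le_of_mul_le_mul_left h4 (by omega)
  have := h2 n hn
  omega

end CfsgLib.Frobenius.TwoClassPReg
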