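import Mathlib.NumberTheory.Padics.RingHoms
import Mathlib.NumberTheory.Padics.ProperSpace
import Mathlib.GroupTheory.SchurZassenhaus
import Mathlib.RepresentationTheory.Basic
import Mathlib.LinearAlgebra.Matrix.GeneralLinearGroup.Defs
import Mathlib.FieldTheory.IsAlgClosed.Classification
import Mathlib.Topology.Algebra.Module.Cardinality
import Mathlib.Analysis.Real.Cardinality
import Mathlib.Analysis.Complex.Basic
import Mathlib.Analysis.Complex.Polynomial.Basic

/-!
# Lifting a linear representation of a `p'`-group over `F_p` to the complex numbers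
-/

set_option autoImplicit false

open scoped Classical Cardinal
open Matrix

namespace CfsgLib.Frobenius.TwoClassPReg

variable {p : ℕ} [hp : Fact p.Prime] {n : ℕ} {H : Type*} [Group H] [Finite H]

instance neZero_pow (k : ℕ) : NeZero (p ^ k) := ⟨pow_ne_zero _ hp.out.ne_zero⟩

/-- Reduction of `GL n` from level `k + 1` to level `k`. -/
noncomputable def red (p n k : ℕ) :
    GL (Fin n) (ZMod (p ^ (k + 2))) →* GL (Fin n) (ZMod (p ^ (k + 1))) :=
  Units.map (RingHom.mapMatrix
    (ZMod.castHom (pow_dvd_pow p (Nat.le_succ (k + 1))) (ZMod (p ^ (k + 1))))).toMonoidHom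

theorem red_surjective (k : ℕ) : Function.Surjective (red p n k) := by
  intro A
  set c := ZMod.castHom (pow_dvd_pow p (Nat.le_succ (k + 1))) (ZMod (p ^ (k + 1))) with hc
  set B : Matrix (Fin n) (Fin n) (ZMod (p ^ (k + 2))) :=
    fun i j => (((A : Matrix (Fin n) (Fin n) (ZMod (p ^ (k + 1)))) i j).val : ZMod (p ^ (k + 2))) with hB
  have hmap : c.mapMatrix B = (A : Matrix (Fin n) (Fin n) (ZMod (p ^ (k + 1)))) := by
    ext i j
    show c (B i j) = _
    simp [hB, hc]
  have hdet : IsUnit (c B.det) := by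
    rw [RingHom.map_det, hmap]
    exact A.isUnit.map detMonoidHom
  have hB' : IsUnit B.det := by
    obtain ⟨d, hd⟩ : ∃ d : ℕ, B.det = (d : ZMod (p ^ (k + 2))) := ⟨B.det.val, by simp⟩
    rw [hd, map_natCast, ZMod.isUnit_iff_coprime, Nat.coprime_pow_right_iff (by omega)] at hdet
    rw [hd, ZMod.isUnit_iff_coprime, Nat.coprime_pow_right_iff (by omega)]
    exact hdet
  refine ⟨((Matrix.isUnit_iff_isUnit_det B).2 hB').unit, Units.ext ?_⟩
  exact hmap

theorem isPGroup_ker_red (k : ℕ) : IsPGroup p (red p n k).ker := by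
  intro u
  refine ⟨1, ?_⟩
  set c := ZMod.castHom (pow_dvd_pow p (Nat.le_succ (k + 1))) (ZMod (p ^ (k + 1))) with hc
  set U : Matrix (Fin n) (Fin n) (ZMod (p ^ (k + 2))) :=
    ((u : GL (Fin n) (ZMod (p ^ (k + 2)))) : Matrix (Fin n) (Fin n) (ZMod (p ^ (k + 2)))) with hU
  set N := U - 1 with hN
  have hu : c.mapMatrix U = 1 := congrArg Units.val (MonoidHom.mem_ker.1 u.2)
  have hent : ∀ i j, ∃ e : ZMod (p ^ (k + 2)), N i j = ((p ^ (k + 1) : ℕ) : ZMod (p ^ (k + 2))) * e := by
    intro i j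
    have h0 : c (N i j) = 0 := by
      have := congrFun (congrFun (show c.mapMatrix N = 0 by rw [hN, map_sub, hu, map_one, sub_self]) i) j
      simpa using this
    obtain ⟨e, he⟩ : p ^ (k + 1) ∣ (N i j).val := by
      have h1 : c ((N i j).val : ZMod (p ^ (k + 2))) = 0 := by rw [ZMod.natCast_zmod_val]; exact h0
      rwa [map_natCast, ZMod.natCast_eq_zero_iff] at h1
    refine ⟨e, ?_⟩
    rw [← ZMod.natCast_zmod_val (N i j), he, Nat.cast_mul]
  choose e he using hent
  have hzero : ∀ m, p ^ (k + 2) ∣ m → ((m : ℕ) : ZMod (p ^ (k + 2))) = 0 := fun m hm =>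
    (ZMod.natCast_eq_zero_iff _ _).2 hm
  have hNN : N * N = 0 := by
    ext i j
    rw [Matrix.mul_apply, Matrix.zero_apply]
    refine Finset.sum_eq_zero fun l _ => ?_
    rw [he, he, mul_mul_mul_comm, ← Nat.cast_mul, ← pow_add, hzero _ (pow_dvd_pow p (by omega)), zero_mul]
  have hpN : p • N = 0 := by
    ext i j
    rw [Matrix.smul_apply, Matrix.zero_apply, nsmul_eq_mul, he, ← mul_assoc, ← Nat.cast_mul, ← pow_succ',
      hzero _ dvd_rfl, zero_mul]
  have hpow : ∀ m : ℕ, U ^ m = 1 + m • N := by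
    intro m
    induction m with
    | zero => simp
    | succ m ih =>
      rw [pow_succ U m, ih, show U = 1 + N by rw [hN]; abel, add_mul, one_mul, smul_mul_assoc, mul_add, mul_one, hNN,
        add_zero, succ_nsmul]
      abel
  refine Subtype.ext (Units.ext ?_)
  rw [SubgroupClass.coe_pow, Units.val_pow_eq_pow_val, pow_one, ← hU, hpow, hpN, add_zero]
  rfl

/-- One step of the lifting. -/
theorem exists_lift_step (hH : ¬ p ∣ Nat.card H) (k : ℕ) (ρ : H →* GL (Fin n) (ZMod (p ^ (k + 1)))) :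
    ∃ ρ' : H →* GL (Fin n) (ZMod (p ^ (k + 2))), (red p n k).comp ρ' = ρ := by
  set E : Subgroup (H × GL (Fin n) (ZMod (p ^ (k + 2)))) :=
    MonoidHom.eqLocus (ρ.comp (MonoidHom.fst _ _)) ((red p n k).comp (MonoidHom.snd _ _)) with hE
  let f : E →* H := (MonoidHom.fst _ _).comp E.subtype
  have hf : Function.Surjective f := fun h => by
    obtain ⟨g, hg⟩ := red_surjective k (ρ h)
    exact ⟨⟨(h, g), hg.symm⟩, rfl⟩
  have hker : IsPGroup p f.ker := by
    intro a
    have ha : ((a : E) : H × GL (Fin n) (ZMod (p ^ (k + 2)))).1 = 1 := a.2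
    have hr : red p n k ((a : E) : H × GL (Fin n) (ZMod (p ^ (k + 2)))).2 = 1 := by
      have h := (a : E).2
      change ρ ((a : E) : H × GL (Fin n) (ZMod (p ^ (k + 2)))).1 =
        red p n k ((a : E) : H × GL (Fin n) (ZMod (p ^ (k + 2)))).2 at h
      rw [ha, map_one] at h
      exact h.symm
    obtain ⟨m, hm⟩ := isPGroup_ker_red k ⟨_, MonoidHom.mem_ker.2 hr⟩
    refine ⟨m, Subtype.ext (Subtype.ext (Prod.ext ?_ ?_))⟩
    · simp [ha]
    · simpa using congrArg Subtype.val hm
  have hidx : f.ker.index = Nat.card H := by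
    rw [Subgroup.index_ker, MonoidHom.range_eq_top.2 hf, Subgroup.card_top]
  obtain ⟨m, hm⟩ := IsPGroup.iff_card.1 hker
  obtain ⟨K, hK⟩ := Subgroup.exists_right_complement'_of_coprime (N := f.ker) (by
    rw [hidx, hm]
    exact (hp.out.coprime_iff_not_dvd.2 hH).pow_left m)
  have hbij : Function.Bijective (f.comp K.subtype) := by
    refine ⟨(injective_iff_map_eq_one _).2 fun a ha => Subtype.ext ?_, fun h => ?_⟩
    · exact Subgroup.disjoint_def.1 hK.disjoint (MonoidHom.mem_ker.2 ha) a.2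
    · obtain ⟨e, rfl⟩ := hf h
      obtain ⟨⟨x, y⟩, hxy⟩ := hK.2 e
      refine ⟨y, ?_⟩
      rw [← show (x : E) * (y : E) = e from hxy, map_mul, MonoidHom.mem_ker.1 x.2, one_mul]
      rfl
  let s := MulEquiv.ofBijective _ hbij
  refine ⟨((MonoidHom.snd _ _).comp E.subtype).comp (K.subtype.comp s.symm.toMonoidHom), MonoidHom.ext fun h => ?_⟩
  have h1 : f (s.symm h : K) = h := s.apply_symm_apply h
  have h2 := ((s.symm h : K) : E).2
  change ρ _ = red p n k _ at h2
  show red p n k _ = ρ h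
  refine (h2.symm.trans ?_)
  exact congrArg ρ h1

/-- The `p`-adic lift. -/
theorem exists_padic_lift (hH : ¬ p ∣ Nat.card H) (ρ : H →* GL (Fin n) (ZMod p)) :
    ∃ σ : H →* Matrix (Fin n) (Fin n) ℤ_[p],
      ∀ h, (PadicInt.toZMod).mapMatrix (σ h) = (ρ h : Matrix (Fin n) (Fin n) (ZMod p)) := by
  set e : ZMod p ≃+* ZMod (p ^ (0 + 1)) := ZMod.ringEquivCongr (by ring) with he
  let ρ0 : H →* GL (Fin n) (ZMod (p ^ (0 + 1))) :=
    (Units.map (RingHom.mapMatrix e.toRingHom).toMonoidHom).comp ρ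
  choose step hstep using exists_lift_step (n := n) hH
  let seq : ∀ k : ℕ, H →* GL (Fin n) (ZMod (p ^ (k + 1))) := fun k => Nat.rec ρ0 step k
  let ev : ∀ k : ℕ, MvPolynomial (H × Fin n × Fin n) ℤ →+* ZMod (p ^ (k + 1)) := fun k =>
    MvPolynomial.eval₂Hom (Int.castRingHom _)
      fun t => (seq k t.1 : Matrix (Fin n) (Fin n) (ZMod (p ^ (k + 1)))) t.2.1 t.2.2
  have hev : ∀ k, (ZMod.castHom (pow_dvd_pow p (Nat.le_succ (k + 1))) (ZMod (p ^ (k + 1)))).comp (ev (k + 1))
      = ev k := by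
    intro k
    refine MvPolynomial.ringHom_ext (fun z => by simp [ev]) fun t => ?_
    have h := congrArg Units.val (DFunLike.congr_fun (hstep k (seq k)) t.1)
    have h' := congrFun (congrFun h t.2.1) t.2.2
    simp only [ev, RingHom.comp_apply, MvPolynomial.eval₂Hom_X']
    exact h'
  let f : ∀ k : ℕ, MvPolynomial (H × Fin n × Fin n) ℤ →+* ZMod (p ^ k) := fun k =>
    (ZMod.castHom (pow_dvd_pow p (Nat.le_succ k)) (ZMod (p ^ k))).comp (ev k)
  have hsucc : ∀ k, (ZMod.castHom (pow_dvd_pow p (Nat.le_succ k)) (ZMod (p ^ k))).comp (f (k + 1)) = f k := by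
    intro k
    simp only [f]
    rw [← hev k]
  have fcompat : ∀ (k1 k2 : ℕ) (hk : k1 ≤ k2),
      (ZMod.castHom (pow_dvd_pow p hk) (ZMod (p ^ k1))).comp (f k2) = f k1 := by
    intro k1 k2 hk
    induction k2, hk using Nat.le_induction with
    | base =>
      rw [show ZMod.castHom (pow_dvd_pow p (le_refl k1)) (ZMod (p ^ k1)) = RingHom.id _ from
        Subsingleton.elim _ _, RingHom.id_comp]
    | succ m hm ih =>
      rw [show ZMod.castHom (pow_dvd_pow p (hm.trans (Nat.le_succ m))) (ZMod (p ^ k1)) =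
        (ZMod.castHom (pow_dvd_pow p hm) (ZMod (p ^ k1))).comp
          (ZMod.castHom (pow_dvd_pow p (Nat.le_succ m)) (ZMod (p ^ m))) from Subsingleton.elim _ _,
        RingHom.comp_assoc, hsucc m, ih]
  set L := PadicInt.lift fcompat with hL
  have hspec : ∀ k x, PadicInt.toZModPow k (L x) = f k x := fun k x =>
    RingHom.congr_fun (PadicInt.lift_spec fcompat k) x
  let a : H → Matrix (Fin n) (Fin n) ℤ_[p] := fun h i j => L (MvPolynomial.X (h, i, j))
  have hak : ∀ k h, (PadicInt.toZModPow k).mapMatrix (a h) =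
      (ZMod.castHom (pow_dvd_pow p (Nat.le_succ k)) (ZMod (p ^ k))).mapMatrix
        (seq k h : Matrix (Fin n) (Fin n) (ZMod (p ^ (k + 1)))) := by
    intro k h
    ext i j
    show PadicInt.toZModPow k (L (MvPolynomial.X (h, i, j))) = ZMod.castHom (pow_dvd_pow p (Nat.le_succ k)) (ZMod (p ^ k))
      ((seq k h : Matrix (Fin n) (Fin n) (ZMod (p ^ (k + 1)))) i j)
    simp [hspec, f, ev]
  have hext : ∀ A B : Matrix (Fin n) (Fin n) ℤ_[p],
      (∀ k, (PadicInt.toZModPow k).mapMatrix A = (PadicInt.toZModPow k).mapMatrix B) → A = B := fun A B h => by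
    refine Matrix.ext fun i j => ?_
    exact PadicInt.ext_of_toZModPow.1 fun k => congrFun (congrFun (h k) i) j
  refine ⟨{ toFun := a
            map_one' := hext _ _ fun k => by rw [hak, map_one (seq k), Units.val_one, map_one, map_one]
            map_mul' := fun g h => hext _ _ fun k => by
              rw [hak, map_mul (seq k), Units.val_mul, map_mul, map_mul, hak, hak] }, fun h => ?_⟩
  have h1 := hak 1 h
  have hto : (PadicInt.toZMod : ℤ_[p] →+* ZMod p) =
      ((ZMod.castHom (dvd_of_eq (pow_one p).symm) (ZMod p)).comp (PadicInt.toZModPow 1)) := by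
    refine RingHom.ext fun x => ?_
    obtain ⟨m, hm⟩ : ∃ m : ℕ, x - m ∈ IsLocalRing.maximalIdeal ℤ_[p] := by
      exact ⟨x.zmodRepr, PadicInt.sub_zmodRepr_mem x⟩
    have e1 : PadicInt.toZMod x = (m : ZMod p) := by
      have : x - m ∈ RingHom.ker (PadicInt.toZMod : ℤ_[p] →+* ZMod p) := by rwa [PadicInt.ker_toZMod]
      rw [RingHom.mem_ker, map_sub, map_natCast, sub_eq_zero] at this
      exact this
    have e2 : PadicInt.toZModPow 1 x = (m : ZMod (p ^ 1)) := by
      have : x - m ∈ RingHom.ker (PadicInt.toZModPow 1 : ℤ_[p] →+* ZMod (p ^ 1)) := by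
        rwa [PadicInt.ker_toZModPow, pow_one, ← PadicInt.maximalIdeal_eq_span_p]
      rw [RingHom.mem_ker, map_sub, map_natCast, sub_eq_zero] at this
      exact this
    rw [e1, RingHom.comp_apply, e2, map_natCast]
  show PadicInt.toZMod.mapMatrix (a h) = _
  rw [hto, ← RingHom.mapMatrix_comp, RingHom.comp_apply, h1]
  have hr := hstep 0 ρ0
  have h0 : (ZMod.castHom (pow_dvd_pow p (Nat.le_succ 1)) (ZMod (p ^ (0 + 1)))).mapMatrix
      (seq 1 h : Matrix (Fin n) (Fin n) (ZMod (p ^ (1 + 1)))) = (ρ0 h : Matrix (Fin n) (Fin n) _) :=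
    congrArg Units.val (DFunLike.congr_fun hr h)
  change (ZMod.castHom _ (ZMod p)).mapMatrix ((ZMod.castHom (pow_dvd_pow p (Nat.le_succ 1))
    (ZMod (p ^ (0 + 1)))).mapMatrix (seq 1 h : Matrix (Fin n) (Fin n) (ZMod (p ^ (1 + 1))))) = _
  rw [h0]
  ext i j
  exact RingHom.congr_fun (Subsingleton.elim
    ((ZMod.castHom (dvd_of_eq (pow_one p).symm) (ZMod p)).comp e.toRingHom) (RingHom.id (ZMod p)))
    ((ρ h : Matrix (Fin n) (Fin n) (ZMod p)) i j)

/-- `ℚ_p` embeds in the complex numbers. -/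
theorem exists_embedding_complex (p : ℕ) [Fact p.Prime] : Nonempty (ℚ_[p] →+* ℂ) := by
  have hK : #ℚ_[p] = 𝔠 := by
    refine le_antisymm ?_ (continuum_le_cardinal_of_nontriviallyNormedField ℚ_[p])
    refine (Cardinal.mk_le_of_surjective (f := (Padic.mk : PadicSeq p → ℚ_[p]))
      (fun x => Quotient.inductionOn x fun a => ⟨a, rfl⟩)).trans ?_
    refine (Cardinal.mk_subtype_le _).trans ?_
    rw [Cardinal.mk_arrow, Cardinal.lift_id, Cardinal.lift_id, Cardinal.mk_nat, Cardinal.mkRat,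
      Cardinal.aleph0_power_aleph0]
  have hA : #(AlgebraicClosure ℚ_[p]) = 𝔠 := by
    refine le_antisymm ?_ ?_
    · refine (Algebra.IsAlgebraic.cardinalMk_le_max ℚ_[p] _).trans ?_
      rw [hK]
      exact max_le le_rfl Cardinal.aleph0_le_continuum
    · rw [← hK]
      exact Cardinal.mk_le_of_injective (algebraMap ℚ_[p] (AlgebraicClosure ℚ_[p])).injective
  haveI : CharZero (AlgebraicClosure ℚ_[p]) :=
    charZero_of_injective_algebraMap (algebraMap ℚ_[p] _).injective
  obtain ⟨e⟩ := IsAlgClosed.ringEquiv_of_equiv_of_charZero (K := AlgebraicClosure ℚ_[p])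
    (L := ℂ) (by rw [hA]; exact Cardinal.aleph0_lt_continuum) (Cardinal.eq.1 (hA.trans Cardinal.mk_complex.symm))
  exact ⟨e.toRingHom.comp (algebraMap ℚ_[p] _)⟩

/-- A faithful representation over `F_p` of a `p'`-group lifts to a faithful complex one. -/
theorem exists_complex_lift (hH : ¬ p ∣ Nat.card H) (ρ : H →* GL (Fin n) (ZMod p))
    (hρ : Function.Injective ρ) :
    ∃ σ : Representation ℂ H (Fin n → ℂ), Function.Injective σ := by
  obtain ⟨a, ha⟩ := exists_padic_lift hH ρ
  obtain ⟨ι⟩ := exists_embedding_complex p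
  set j : ℤ_[p] →+* ℂ := ι.comp PadicInt.Coe.ringHom with hj
  have hji : Function.Injective j := ι.injective.comp Subtype.val_injective
  refine ⟨(Matrix.toLinAlgEquiv' : Matrix (Fin n) (Fin n) ℂ ≃ₐ[ℂ] _).toMonoidHom.comp
    (j.mapMatrix.toMonoidHom.comp a), ?_⟩
  intro g h hgh
  apply hρ
  refine Units.ext ?_
  rw [← ha g, ← ha h]
  have h1 : j.mapMatrix (a g) = j.mapMatrix (a h) := Matrix.toLinAlgEquiv'.injective hgh
  congr 1
  refine Matrix.ext fun i k => ?_
  exact hji (congrFun (congrFun h1 i) k)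

end CfsgLib.Frobenius.TwoClassPReg
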