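import Cfsg.Agent.Lib.Frobenius.TwoClassPReg.Reduction
import Cfsg.Agent.Lib.Perm.Zassenhaus.Main
import Cfsg.Agent.S2325
import Cfsg.Prelude.Def_Perm
import Cfsg.Prelude.Def_Solvable
import Mathlib.GroupTheory.Commutator.Basic

/-!
# `p`-solvable groups with one class of nontrivial `p`-elements and fewer than `p` regular classes
-/

set_option autoImplicit false

namespace CfsgLib.Frobenius.TwoClassPReg

local notation "L25" => Matrix.SpecialLinearGroup (Fin 2) (ZMod 5)

/-- Elements of orders 4, 3, 5 of `SL(2, 5)` and the orders of their centralizers. -/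
theorem sl25_elements :
    ∀ q ∈ [(2, 4, 4), (3, 3, 6), (5, 5, 10)], ∃ A : L25,
      A ^ q.2.1 = 1 ∧ (∀ i < q.2.1, 0 < i → A ^ i ≠ 1) ∧
        (Finset.univ.filter fun B : L25 => B * A = A * B).card = q.2.2 := by
  intro q hq
  fin_cases hq
  · exact ⟨⟨!![2, 0; 0, 3], by decide +kernel⟩, by decide +kernel⟩
  · exact ⟨⟨!![0, 4; 1, 4], by decide +kernel⟩, by decide +kernel⟩
  · exact ⟨⟨!![1, 1; 0, 1], by decide +kernel⟩, by decide +kernel⟩

open scoped _root_.Classical commutatorElement
open Matrix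

/-- In a surjection losing at most one element, only one pair is identified. -/
theorem eq_pair {α β : Type*} [Finite α] {f : α → β} (hf : Function.Surjective f)
    (hc : Nat.card α ≤ Nat.card β + 1) {a b : α} (hab : a ≠ b) (he : f a = f b) {x y : α} (hxy : x ≠ y)
    (hxe : f x = f y) : (x = a ∧ y = b) ∨ (x = b ∧ y = a) := by
  letI := Fintype.ofFinite α
  haveI : Finite β := Finite.of_surjective f hf
  letI := Fintype.ofFinite β
  have key : ∀ c, (∃ d, d ≠ c ∧ f d = f c) → Set.InjOn f {z | z ≠ c} := by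
    rintro c ⟨d, hd, hdc⟩ z hz w hw hzw
    let g : {z : α // z ≠ c} → β := fun z => f z
    have hg : Function.Surjective g := fun t => by
      obtain ⟨z, rfl⟩ := hf t
      by_cases h : z = c
      · exact ⟨⟨d, hd⟩, by show f d = f z; rw [h, hdc]⟩
      · exact ⟨⟨z, h⟩, rfl⟩
    have hcard : Fintype.card {z : α // z ≠ c} = Fintype.card β := by
      refine le_antisymm ?_ (Fintype.card_le_of_surjective g hg)
      rw [Fintype.card_subtype_compl, Fintype.card_subtype_eq]
      rw [Nat.card_eq_fintype_card, Nat.card_eq_fintype_card] at hc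
      omega
    exact congrArg Subtype.val (((Fintype.bijective_iff_surjective_and_card g).2 ⟨hg, hcard⟩).1
      (a₁ := ⟨z, hz⟩) (a₂ := ⟨w, hw⟩) hzw)
  by_cases hxb : x = b
  · refine Or.inr ⟨hxb, ?_⟩
    by_contra hya
    exact hya (key b ⟨a, hab, he⟩ (show y ≠ b from hxb ▸ hxy.symm) (show a ≠ b from hab)
      (by rw [← hxe, hxb, he]))
  · by_cases hyb : y = b
    · refine Or.inl ⟨?_, hyb⟩
      exact key b ⟨a, hab, he⟩ hxb hab (by rw [hxe, hyb, he])
    · exact absurd (key b ⟨a, hab, he⟩ hxb hyb hxe) hxy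

section

variable {G : Type*} [Group G] [Finite G]

/-- The exceptional quotient admits no proper covering without more regular classes. -/
theorem false_of_cover {Q : Type*} [Group Q] [Finite Q] (f : G →* Q) (hf : Function.Surjective f)
    (hNp : ¬ 11 ∣ Nat.card f.ker) (hN : f.ker ≠ ⊥) {H : Subgroup Q} (π : Q →* H) (hπ : ∀ h : H, π h = h)
    (hV : Nat.card π.ker = 121) (hfpf : ∀ h : H, h ≠ 1 → ∀ v ∈ π.ker, (h : Q) * v = v * h → v = 1)
    (e : H ≃* L25) (hcl : Nat.card (RegClasses 11 G) ≤ Nat.card (RegClasses 11 Q) + 1) : False := by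
  haveI : Fact (Nat.Prime 11) := ⟨by norm_num⟩
  have hH : Nat.card H = 120 := by
    rw [Nat.card_congr e.toEquiv, CfsgLib.Perm.Zassenhaus.card_sl_two_five]
  haveI : Finite (ConjClasses G) := Finite.of_surjective _ ConjClasses.mk_surjective
  set N := f.ker with hNdef
  have hreg : ∀ x : G, ¬ 11 ∣ orderOf (f x) → ¬ 11 ∣ orderOf x := by
    intro x hx hd
    have h1 : x ^ orderOf (f x) ∈ N := by rw [MonoidHom.mem_ker, map_pow, pow_orderOf_eq_one]
    have h2 := (orderOf_dvd_natCard (⟨_, h1⟩ : N))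
    rw [← Subgroup.orderOf_coe] at h2
    have h3 : orderOf x ∣ orderOf (f x) * Nat.card N := by
      refine orderOf_dvd_of_pow_eq_one ?_
      rw [pow_mul]
      exact orderOf_dvd_iff_pow_eq_one.1 h2
    rcases (show (11).Prime by norm_num).dvd_mul.1 (hd.trans h3) with h | h
    · exact hx h
    · exact hNp h
  let cl : ∀ x : G, ¬ 11 ∣ orderOf x → RegClasses 11 G := fun x hx => ⟨ConjClasses.mk x, x, rfl, hx⟩
  have hcleq : ∀ x y hx hy, cl x hx = cl y hy ↔ IsConj x y := fun x y hx hy =>
    ⟨fun h => ConjClasses.mk_eq_mk_iff_isConj.1 (congrArg Subtype.val h),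
      fun h => Subtype.ext (ConjClasses.mk_eq_mk_iff_isConj.2 h)⟩
  have hmapeq : ∀ x y hx hy, IsConj (f x) (f y) → regMap f (cl x hx) = regMap f (cl y hy) := fun x y hx hy h =>
    Subtype.ext (ConjClasses.mk_eq_mk_iff_isConj.2 h)
  have hregN : ∀ x ∈ N, ¬ 11 ∣ orderOf x := fun x hx => hreg x (by
    rw [MonoidHom.mem_ker.1 hx, orderOf_one]; norm_num)
  have h1reg : ¬ 11 ∣ orderOf (1 : G) := by rw [orderOf_one]; norm_num
  obtain ⟨⟨u, huN⟩, hu1⟩ := Subgroup.ne_bot_iff_exists_ne_one.1 hN
  have hu1' : u ≠ 1 := fun h => hu1 (Subtype.ext h)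
  have hab : cl 1 h1reg ≠ cl u (hregN u huN) := fun h => hu1' (isConj_one_right.1 ((hcleq 1 u h1reg (hregN u huN)).1 h))
  have habe : regMap f (cl 1 h1reg) = regMap f (cl u (hregN u huN)) := hmapeq 1 u h1reg (hregN u huN) (by
    rw [map_one, MonoidHom.mem_ker.1 huN])
  have hpair := fun {x y : RegClasses 11 G} (hxy : x ≠ y) (he : regMap f x = regMap f y) =>
    eq_pair (regMap_surjective f (Fact.out : Nat.Prime 11) hf) hcl hab habe hxy he
  have hconjN : ∀ x ∈ N, x ≠ 1 → IsConj x u := by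
    intro x hx hx1
    by_contra hne
    have hxa : cl x (hregN x hx) ≠ cl 1 h1reg := fun h => hx1 (isConj_one_left.1 ((hcleq x 1 (hregN x hx) h1reg).1 h))
    rcases hpair hxa (hmapeq x 1 (hregN x hx) h1reg (by rw [map_one, MonoidHom.mem_ker.1 hx])) with ⟨h, -⟩ | ⟨h, -⟩
    · exact hxa h
    · exact hne ((hcleq x u (hregN x hx) (hregN u huN)).1 h)
  have hconjL : ∀ x y : G, ¬ 11 ∣ orderOf (f x) → f x ≠ 1 → IsConj (f x) (f y) → IsConj x y := by
    intro x y hx hx1 hc
    by_contra hne
    have hy : ¬ 11 ∣ orderOf (f y) := by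
      obtain ⟨g, hg⟩ := isConj_iff.1 hc
      rw [← hg]
      exact fun h => hx ((MulAut.conj g).orderOf_eq (f x) ▸ h)
    have hx' : ∀ z, f z = 1 → ¬ IsConj x z := fun z hz h => hx1 (isConj_one_right.1 (by
      have := f.map_isConj h; rw [hz] at this; exact this.symm))
    have hxy : cl x (hreg x hx) ≠ cl y (hreg y hy) := fun h => hne ((hcleq x y (hreg x hx) (hreg y hy)).1 h)
    rcases hpair hxy (hmapeq x y (hreg x hx) (hreg y hy) hc) with ⟨h, -⟩ | ⟨h, -⟩
    · exact hx' 1 (map_one f) ((hcleq x 1 (hreg x hx) h1reg).1 h)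
    · exact hx' u (MonoidHom.mem_ker.1 huN) ((hcleq x u (hreg x hx) (hregN u huN)).1 h)
  -- the kernel is an elementary abelian group
  set s := (orderOf u).minFac
  have hs : s.Prime := Nat.minFac_prime fun h => hu1' (orderOf_eq_one_iff.1 h)
  haveI : Fact s.Prime := ⟨hs⟩
  have hsd : s ∣ Nat.card N := (Nat.minFac_dvd _).trans (by
    rw [show u = ((⟨u, huN⟩ : N) : G) from rfl, Subgroup.orderOf_coe]; exact orderOf_dvd_natCard _)
  obtain ⟨t, ht⟩ := exists_prime_orderOf_dvd_card' (G := N) s hsd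
  have hordN : ∀ x ∈ N, x ≠ 1 → orderOf x = s := by
    intro x hx hx1
    have ht1 : (t : G) ≠ 1 := fun h => hs.one_lt.ne (by
      rw [← ht, ← Subgroup.orderOf_coe, h, orderOf_one])
    obtain ⟨g, hg⟩ := isConj_iff.1 ((hconjN t t.2 ht1).trans (hconjN x hx hx1).symm)
    rw [← hg, ← MulAut.conj_apply, MulEquiv.orderOf_eq, Subgroup.orderOf_coe, ht]
  have hNs : IsPGroup s N := fun x => by
    by_cases hx : x = 1
    · exact ⟨0, by rw [hx, one_pow]⟩
    · exact ⟨1, by rw [pow_one, ← hordN x x.2 (fun h => hx (Subtype.ext h)), Subgroup.orderOf_coe,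
        pow_orderOf_eq_one]⟩
  have hs11 : s ≠ 11 := fun h => hNp (h ▸ hsd)
  haveI : Nontrivial N := (Subgroup.nontrivial_iff_ne_bot N).2 hN
  haveI := hNs.center_nontrivial
  have hNab : ∀ a b : N, a * b = b * a := by
    intro a b
    haveI hn : ((Subgroup.center N).map N.subtype).Normal := inferInstance
    obtain ⟨⟨z, hz⟩, hz1⟩ := exists_ne (1 : Subgroup.center N)
    by_cases ha : a = 1
    · rw [ha, one_mul, mul_one]
    obtain ⟨g, hg⟩ := isConj_iff.1 ((hconjN z z.2 (fun h => hz1 (Subtype.ext (Subtype.ext h)))).trans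
      (hconjN a a.2 (fun h => ha (Subtype.ext h))).symm)
    obtain ⟨a', ha', he⟩ := hn.conj_mem _ (Subgroup.mem_map_of_mem N.subtype hz) g
    rw [Subgroup.coe_subtype, hg] at he
    rw [← show a' = a from Subtype.ext he]
    exact (Subgroup.mem_center_iff.1 ha' b).symm
  -- centralizers
  have hkey : ∀ (g : G) (h : H), f g = h → h ≠ 1 →
      orderOf h * Nat.card {x : N // g * x = x * g} ∣ Nat.card (Subgroup.centralizer ({h} : Set H)) := by
    intro g h hg hh
    have hho : ¬ 11 ∣ orderOf (f g) := by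
      rw [hg, Subgroup.orderOf_coe]
      exact fun hd => absurd (hd.trans (orderOf_dvd_natCard h)) (by rw [hH]; norm_num)
    have hg1 : f g ≠ 1 := fun h1 => hh (Subtype.ext (by rw [← hg, h1]; rfl))
    -- class sizes
    have hclass : Nat.card {x // IsConj g x} = Nat.card N * Nat.card {y // IsConj (f g) y} := by
      have hlift := fun y : {y // IsConj (f g) y} => hf y.1
      choose l hl using hlift
      refine (Nat.card_congr ?_).trans (Nat.card_prod N {y // IsConj (f g) y})
      refine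
        { toFun := fun x => (⟨x.1 * (l ⟨f x.1, f.map_isConj x.2⟩)⁻¹, by
              rw [MonoidHom.mem_ker, map_mul, map_inv, hl, mul_inv_cancel]⟩, ⟨f x.1, f.map_isConj x.2⟩)
          invFun := fun q => ⟨(q.1 : G) * l q.2, hconjL g _ hho hg1 (by
              rw [map_mul, MonoidHom.mem_ker.1 q.1.2, one_mul, hl]; exact q.2.2)⟩
          left_inv := fun x => Subtype.ext (inv_mul_cancel_right _ _)
          right_inv := fun q => ?_ }
      have h2 : f ((q.1 : G) * l q.2) = q.2 := by rw [map_mul, MonoidHom.mem_ker.1 q.1.2, one_mul, hl]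
      refine Prod.ext (Subtype.ext ?_) (Subtype.ext h2)
      show (q.1 : G) * l q.2 * (l ⟨f ((q.1 : G) * l q.2), _⟩)⁻¹ = q.1
      rw [show (⟨f ((q.1 : G) * l q.2), _⟩ : {y // IsConj (f g) y}) = q.2 from Subtype.ext h2,
        mul_inv_cancel_right]
    rw [card_conjugates, card_conjugates] at hclass
    have hGQ : Nat.card G = Nat.card N * Nat.card Q := by
      rw [← N.card_mul_index, hNdef, Subgroup.index_ker, MonoidHom.range_eq_top.2 hf, Subgroup.card_top]
    have e1 := (Subgroup.centralizer ({g} : Set G)).card_mul_index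
    have e2 := (Subgroup.centralizer ({f g} : Set Q)).card_mul_index
    rw [hclass, hGQ, ← e2, ← mul_assoc, mul_comm _ (Nat.card N), mul_assoc] at e1
    have hCeq : Nat.card (Subgroup.centralizer ({g} : Set G)) = Nat.card (Subgroup.centralizer ({f g} : Set Q)) :=
      Nat.eq_of_mul_eq_mul_right (Nat.pos_of_ne_zero Subgroup.index_ne_zero_of_finite)
        (Nat.eq_of_mul_eq_mul_left Nat.card_pos e1)
    have hCH : Nat.card (Subgroup.centralizer ({f g} : Set Q)) = Nat.card (Subgroup.centralizer ({h} : Set H)) := by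
      refine Nat.card_congr (Equiv.ofBijective (fun q => (⟨π q.1, Subgroup.mem_centralizer_singleton_iff.2 (by
        have := congrArg π (Subgroup.mem_centralizer_singleton_iff.1 q.2)
        rwa [map_mul, map_mul, show π (f g) = h by rw [hg, hπ]] at this)⟩ : Subgroup.centralizer ({h} : Set H))) ⟨fun a b hab => ?_, fun y => ?_⟩)
      · have ha := Subgroup.mem_centralizer_singleton_iff.1 a.2
        have hb := Subgroup.mem_centralizer_singleton_iff.1 b.2
        have hc : ((a⁻¹ * b : Subgroup.centralizer ({f g} : Set Q)) : Q) = 1 := by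
          refine hfpf h hh _ ?_ ?_
          · rw [MonoidHom.mem_ker, Subgroup.coe_mul, Subgroup.coe_inv, map_mul, map_inv,
              show π a.1 = π b.1 from congrArg Subtype.val hab, inv_mul_cancel]
          · rw [← hg]
            exact (Subgroup.mem_centralizer_singleton_iff.1 (a⁻¹ * b).2).symm
        exact inv_mul_eq_one.1 (Subtype.ext hc)
      · refine ⟨⟨((y : H) : Q), Subgroup.mem_centralizer_singleton_iff.2 ?_⟩, Subtype.ext (hπ _)⟩
        rw [hg, ← Subgroup.coe_mul, ← Subgroup.coe_mul, Subgroup.mem_centralizer_singleton_iff.1 y.2]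
    rw [← hCH, ← hCeq]
    set φ : Subgroup.centralizer ({g} : Set G) →* Q := f.comp (Subgroup.subtype _)
    have h1 : Nat.card φ.ker = Nat.card {x : N // g * x = x * g} := Nat.card_congr
      { toFun := fun x => ⟨⟨(x.1 : G), x.2⟩, (Subgroup.mem_centralizer_singleton_iff.1 x.1.2).symm⟩
        invFun := fun x => ⟨⟨(x.1 : G), Subgroup.mem_centralizer_singleton_iff.2 x.2.symm⟩, x.1.2⟩
        left_inv := fun x => rfl
        right_inv := fun x => rfl }
    have h2 : orderOf h ∣ Nat.card φ.range := by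
      rw [← Subgroup.orderOf_coe, ← hg]
      have hmem : f g ∈ φ.range := ⟨⟨g, Subgroup.mem_centralizer_singleton_iff.2 rfl⟩, rfl⟩
      have := orderOf_dvd_natCard (⟨f g, hmem⟩ : φ.range)
      rwa [← Subgroup.orderOf_coe] at this
    rw [← φ.ker.card_mul_index, Subgroup.index_ker, ← h1, mul_comm]
    exact mul_dvd_mul_left _ h2
  have hfix : ∀ g : G, ∀ x ∈ N, x ≠ 1 → g * x = x * g → s ∣ Nat.card {x : N // g * x = x * g} := by
    intro g x hx hx1 hc
    have h1 : Nat.card ((Subgroup.centralizer ({g} : Set G)).subgroupOf N) = Nat.card {x : N // g * x = x * g} :=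
      Nat.card_congr (Equiv.subtypeEquivRight fun x => by
        rw [Subgroup.mem_subgroupOf, Subgroup.mem_centralizer_singleton_iff, eq_comm])
    rw [← h1]
    obtain ⟨k, hk⟩ := IsPGroup.iff_card.1 (hNs.to_subgroup ((Subgroup.centralizer ({g} : Set G)).subgroupOf N))
    rw [hk]
    refine dvd_pow_self _ fun h0 => ?_
    rw [h0, pow_zero] at hk
    have hbot := (Subgroup.card_eq_one).1 hk
    have hmem : (⟨x, hx⟩ : N) ∈ (Subgroup.centralizer ({g} : Set G)).subgroupOf N := by
      rw [Subgroup.mem_subgroupOf, Subgroup.mem_centralizer_singleton_iff]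
      exact hc.symm
    rw [hbot, Subgroup.mem_bot] at hmem
    exact hx1 (congrArg Subtype.val hmem)
  by_cases hs5 : s = 2 ∨ s = 3 ∨ s = 5
  · have hsmall : ∀ o c : ℕ, (s, o, c) ∈ [(2, 4, 4), (3, 3, 6), (5, 5, 10)] → (∃ j, 0 < j ∧ o = s ^ j) →
        ¬ o * s ∣ c → False := by
      intro o c hmem ⟨j, hj0, hoj⟩ hndvd
      obtain ⟨A, hA1, hA2, hA3⟩ := sl25_elements (s, o, c) hmem
      replace hA3 : (Finset.univ.filter fun B : L25 => B * A = A * B).card = c := hA3
      set h := e.symm A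
      have ho : orderOf h = o := by
        rw [MulEquiv.orderOf_eq]
        exact (orderOf_eq_iff (by rw [hoj]; exact pow_pos hs.pos j)).2 ⟨hA1, fun i hi hi0 => hA2 i hi hi0⟩
      have hh : h ≠ 1 := fun h1 => by
        rw [h1, orderOf_one, hoj] at ho
        exact (Nat.one_lt_pow hj0.ne' hs.one_lt).ne ho
      have hcard : Nat.card (Subgroup.centralizer ({h} : Set H)) = c := by
        rw [← hA3, ← Fintype.card_subtype, ← Nat.card_eq_fintype_card]
        refine Nat.card_congr (e.toEquiv.subtypeEquiv fun y => ?_)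
        rw [Subgroup.mem_centralizer_singleton_iff]
        show y * h = h * y ↔ e y * A = A * e y
        constructor
        · intro hy
          simpa [h] using congrArg e hy
        · intro hy
          apply e.injective
          simpa [h] using hy
      obtain ⟨g₀, hg₀⟩ := hf (h : Q)
      obtain ⟨g, hg, k, hk⟩ := exists_pElement_lift f hs g₀ ⟨j, by rw [hg₀, Subgroup.orderOf_coe, ho, hoj]⟩
      rw [hg₀] at hg
      have hfp : ∃ x ∈ N, x ≠ 1 ∧ g * x = x * g := by
        let P : Subgroup G := Subgroup.zpowers g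
        have hP : IsPGroup s P := IsPGroup.of_card (n := k) (by rw [Nat.card_zpowers, hk])
        letI : MulAction P N := MulAction.compHom N ((MulAut.conjNormal (H := N)).comp P.subtype)
        obtain ⟨x, hx, hx1⟩ := hP.exists_fixed_point_of_prime_dvd_card_of_fixed_point N hsd (a := (1 : N))
          (fun q => map_one (MulAut.conjNormal (q : G)))
        refine ⟨x, x.2, fun h1 => hx1 (Subtype.ext h1).symm, ?_⟩
        have h2 : MulAut.conjNormal g x = x := hx ⟨g, Subgroup.mem_zpowers g⟩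
        have h3 := congrArg Subtype.val h2
        rw [MulAut.conjNormal_apply] at h3
        exact mul_inv_eq_iff_eq_mul.1 h3
      obtain ⟨x, hx, hx1, hxc⟩ := hfp
      exact hndvd (by
        rw [← hcard, ← ho]
        exact (mul_dvd_mul_left _ (hfix g x hx hx1 hxc)).trans (hkey g h hg hh))
    rcases hs5 with h | h | h
    · exact hsmall 4 4 (by simp [h]) ⟨2, by norm_num, by rw [h]; norm_num⟩ (by rw [h]; norm_num)
    · exact hsmall 3 6 (by simp [h]) ⟨1, by norm_num, by rw [h]; norm_num⟩ (by rw [h]; norm_num)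
    · exact hsmall 5 10 (by simp [h]) ⟨1, by norm_num, by rw [h]; norm_num⟩ (by rw [h]; norm_num)
  -- no element outside `N` of order prime to `11` centralizes `u`
  set C := Subgroup.centralizer ({u} : Set G)
  have hnoreg : ∀ g ∈ C, π (f g) = 1 := by
    intro g hg
    by_contra hne
    set h := π (f g) with hh
    -- a power of `g` with the same image in `H` and of order prime to eleven
    obtain ⟨y, hy, hye, hyr⟩ := exists_regular_lift (π.comp f) (show (11).Prime by norm_num) g
      (by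
        show ¬ 11 ∣ orderOf h
        exact fun hd => absurd (hd.trans (orderOf_dvd_natCard h)) (by rw [hH]; norm_num))
    have hyC : y ∈ C := (Subgroup.zpowers_le.2 hg) hy
    obtain ⟨w, hw⟩ : ∃ w ∈ π.ker, f y = w * (h : Q) := ⟨f y * ((h : Q))⁻¹, by
      rw [MonoidHom.mem_ker, map_mul, map_inv, hπ, show π (f y) = h from hye, mul_inv_cancel],
      (inv_mul_cancel_right _ _).symm⟩
    -- `f y` is conjugate to `h` by an element of the kernel of `π`
    have hinj : Function.Bijective (fun v : π.ker => (⟨(v : Q) * h * (v : Q)⁻¹ * (h : Q)⁻¹, by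
        simp [MonoidHom.mem_ker, hπ, MonoidHom.mem_ker.1 v.2]⟩ : π.ker)) := by
      rw [Nat.bijective_iff_injective_and_card]
      refine ⟨fun a b hab => ?_, rfl⟩
      have h1 : (a : Q) * h * (a : Q)⁻¹ = (b : Q) * h * (b : Q)⁻¹ :=
        mul_right_cancel (congrArg Subtype.val hab)
      have h2 : ((b⁻¹ * a : π.ker) : Q) = 1 := hfpf h hne _ (b⁻¹ * a).2 (by
        rw [Subgroup.coe_mul, Subgroup.coe_inv]
        calc (h : Q) * ((b : Q)⁻¹ * a) = (b : Q)⁻¹ * ((b : Q) * h * (b : Q)⁻¹) * a := by simp [mul_assoc]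
          _ = _ := by rw [← h1]; simp [mul_assoc])
      exact (inv_mul_eq_one.1 (Subtype.ext h2)).symm
    obtain ⟨v, hv⟩ := hinj.2 ⟨w, hw.1⟩
    have hv' : f y = (v : Q) * h * (v : Q)⁻¹ := by
      have hv2 : (v : Q) * h * (v : Q)⁻¹ * (h : Q)⁻¹ = w := congrArg Subtype.val hv
      rw [hw.2, ← hv2, inv_mul_cancel_right]
    obtain ⟨V', hV'⟩ := hf (v : Q)
    have hy' : f (V'⁻¹ * y * V') = h := by rw [map_mul, map_mul, map_inv, hV', hv']; simp [mul_assoc]
    set x := V'⁻¹ * u * V'
    have hxN : x ∈ N := by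
      have := (inferInstance : N.Normal).conj_mem u huN V'⁻¹
      simpa [x] using this
    have hx1 : x ≠ 1 := fun h1 => hu1' (by
      have := congrArg (fun t => V' * t * V'⁻¹) h1
      simpa [x, mul_assoc] using this)
    have hcomm : V'⁻¹ * y * V' * x = x * (V'⁻¹ * y * V') := by
      have h2 := Subgroup.mem_centralizer_singleton_iff.1 hyC
      simp only [x, mul_assoc, mul_inv_cancel_left]
      rw [← mul_assoc y, h2, mul_assoc]
    have h3 : s ∣ 120 := ((hfix _ x hxN hx1 hcomm).trans ((dvd_mul_left _ _).trans (hkey _ h hy' hne))).trans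
      (hH ▸ Subgroup.card_subgroup_dvd_card _)
    have : s ∈ [2, 3, 5] := by
      have := Nat.le_of_dvd (by norm_num) h3
      have hdd : ∀ t ≤ 120, t.Prime → t ∣ 120 → t ∈ [2, 3, 5] := by decide +kernel
      exact hdd s this hs h3
    exact hs5 (by simpa using this)
  have himg : C.map f ≤ π.ker := by
    rintro _ ⟨g, hg, rfl⟩
    exact MonoidHom.mem_ker.2 (hnoreg g hg)
  have hNC : N ≤ C := fun x hx => Subgroup.mem_centralizer_singleton_iff.2
    (congrArg Subtype.val (hNab ⟨x, hx⟩ ⟨u, huN⟩))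
  have hQ : Nat.card Q = 121 * 120 := by
    rw [← π.ker.card_mul_index, Subgroup.index_ker, (MonoidHom.range_eq_top (f := π)).2 (fun h => ⟨h, hπ h⟩),
      Subgroup.card_top, hV, hH]
  have hidx : C.index = (C.map f).index := by
    rw [← Subgroup.index_comap_of_surjective (H := C.map f) hf, Subgroup.comap_map_eq_self hNC]
  have hcls : C.index = Nat.card N - 1 := by
    rw [← card_conjugates]
    have : Nat.card {z // IsConj u z} = Nat.card {z : N // z ≠ 1} := Nat.card_congr
      { toFun := fun z => ⟨⟨z.1, by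
            obtain ⟨g, hg⟩ := isConj_iff.1 z.2
            rw [← hg]
            exact (inferInstance : N.Normal).conj_mem u huN g⟩, fun h => hu1' (by
            have h1 : z.1 = 1 := congrArg Subtype.val h
            have h2 := z.2
            rw [h1, isConj_comm, isConj_one_right] at h2
            exact h2)⟩
        invFun := fun z => ⟨z.1.1, (hconjN _ z.1.2 fun h => z.2 (Subtype.ext h)).symm⟩
        left_inv := fun z => rfl
        right_inv := fun z => rfl }
    rw [this]
    letI := Fintype.ofFinite N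
    rw [Nat.card_eq_fintype_card, Nat.card_eq_fintype_card, Fintype.card_subtype_compl, Fintype.card_subtype_eq]
  have hd121 : Nat.card (C.map f) ∣ 11 ^ 2 := by
    have := Subgroup.card_dvd_of_le himg
    rwa [hV] at this
  have hmul := (C.map f).card_mul_index
  rw [← hidx, hcls, hQ] at hmul
  obtain ⟨k, hk⟩ := IsPGroup.iff_card.1 hNs
  obtain ⟨j, hj, hj'⟩ := (Nat.dvd_prime_pow (show (11).Prime by norm_num)).1 hd121
  rw [hj'] at hmul
  have hval : Nat.card N = 14521 ∨ Nat.card N = 1321 ∨ Nat.card N = 121 := by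
    interval_cases j <;> omega
  rcases hval with hc | hc | hc
  · have h1 : ∀ t, t.Prime → t ∣ 14521 → t = s := fun t ht htd =>
      (Nat.prime_dvd_prime_iff_eq ht hs).1 (ht.dvd_of_dvd_pow (hk ▸ hc ▸ htd))
    have := (h1 13 (by norm_num) (by norm_num)).trans (h1 1117 (by norm_num) (by norm_num)).symm
    omega
  · haveI : Fact (Nat.Prime 1321) := ⟨by norm_num⟩
    have hzp : ∀ x ∈ N, x ∈ Subgroup.zpowers u := by
      intro x hx
      have h1 : Subgroup.zpowers (⟨u, huN⟩ : N) = ⊤ := zpowers_eq_top_of_prime_card hc hu1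
      obtain ⟨i, hi⟩ := Subgroup.mem_zpowers_iff.1 (h1.symm ▸ Subgroup.mem_top (⟨x, hx⟩ : N) :
        (⟨x, hx⟩ : N) ∈ Subgroup.zpowers (⟨u, huN⟩ : N))
      exact ⟨i, congrArg Subtype.val hi⟩
    obtain ⟨a, b, hab'⟩ : ∃ a b : H, a * b ≠ b * a := by
      obtain ⟨A, B, hAB⟩ : ∃ A B : L25, A * B ≠ B * A :=
        ⟨⟨!![1, 1; 0, 1], by decide +kernel⟩, ⟨!![1, 0; 1, 1], by decide +kernel⟩, by decide +kernel⟩
      exact ⟨e.symm A, e.symm B, fun h => hAB (e.symm.injective (by rw [map_mul, map_mul]; exact h))⟩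
    obtain ⟨A, hA⟩ := hf (a : Q)
    obtain ⟨B, hB⟩ := hf (b : Q)
    have hact : ∀ g : G, ∃ i : ℤ, g * u * g⁻¹ = u ^ i := fun g => by
      obtain ⟨i, hi⟩ := Subgroup.mem_zpowers_iff.1 (hzp _ ((inferInstance : N.Normal).conj_mem u huN g))
      exact ⟨i, hi.symm⟩
    obtain ⟨i, hi⟩ := hact A
    obtain ⟨m, hm⟩ := hact B
    have hK : A * B * A⁻¹ * B⁻¹ ∈ C := by
      rw [Subgroup.mem_centralizer_singleton_iff]
      have hAB : (A * B) * u * (A * B)⁻¹ = (B * A) * u * (B * A)⁻¹ := by
        calc (A * B) * u * (A * B)⁻¹ = A * (B * u * B⁻¹) * A⁻¹ := by simp [mul_assoc]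
          _ = (u ^ i) ^ m := by rw [hm, ← conj_zpow, hi]
          _ = (u ^ m) ^ i := by rw [← _root_.zpow_mul, ← _root_.zpow_mul, mul_comm]
          _ = B * (A * u * A⁻¹) * B⁻¹ := by rw [hi, ← conj_zpow, hm]
          _ = _ := by simp [mul_assoc]
      have h2 := congrArg (fun t => (B * A)⁻¹ * t * (A * B)) hAB
      simp only [mul_assoc, inv_mul_cancel, mul_one, inv_mul_cancel_left] at h2
      have h3 : Commute ((B * A)⁻¹ * (A * B)) u := by
        show _ = _
        simpa [mul_assoc] using h2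
      have h4 : A * B * A⁻¹ * B⁻¹ = (B * A) * ((B * A)⁻¹ * (A * B)) * (B * A)⁻¹ := by simp [mul_assoc]
      have h5 : Commute ((B * A) * ((B * A)⁻¹ * (A * B)) * (B * A)⁻¹) ((B * A) * u * (B * A)⁻¹) := h3.conj _
      rw [h4]
      obtain ⟨l, hl⟩ := hact (B * A)⁻¹
      have hu' : u = ((B * A) * u * (B * A)⁻¹) ^ l := by
        rw [conj_zpow, ← hl]
        simp [mul_assoc]
      conv_lhs => rw [hu']
      conv_rhs => rw [hu']
      exact (h5.zpow_right l).eq
    have := hnoreg _ hK
    rw [map_mul, map_mul, map_mul, map_inv, map_inv, map_mul, map_mul, map_mul, map_inv, map_inv, hA, hB, hπ, hπ] at this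
    exact hab' (mul_inv_eq_iff_eq_mul.1 (mul_inv_eq_one.1 this))
  · refine hs11 ((Nat.prime_dvd_prime_iff_eq hs (show (11).Prime by norm_num)).1 (hs.dvd_of_dvd_pow (n := 2) ?_))
    exact hsd.trans (dvd_of_eq hc)

end

/-- The affine group over `F_p`. -/
theorem equiv_affine {p : ℕ} [hp : Fact p.Prime] {G : Type*} [Group G] {H : Subgroup G} (π : G →* H)
    (hπ : ∀ h : H, π h = h) (ρ : H →* GL (Fin 1) (ZMod p)) (c : π.ker → Fin 1 → ZMod p) (hcb : Function.Bijective c)
    (hcm : ∀ a b : π.ker, c (a * b) = c a + c b)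
    (hconj : ∀ (h : H) (a b : π.ker), (b : G) = (h : G) * a * (h : G)⁻¹ →
      c b = (ρ h : Matrix (Fin 1) (Fin 1) (ZMod p)) *ᵥ c a)
    (hρ : Function.Injective ρ) (ht : TransNonzero ρ) :
    Nonempty (G ≃* ↥(Cfsg.affineGroup (ZMod p))) := by
  let a : H → ZMod p := fun h => (ρ h : Matrix (Fin 1) (Fin 1) (ZMod p)) 0 0
  have ha1 : a 1 = 1 := by simp [a]
  have ham : ∀ h h', a (h * h') = a h * a h' := fun h h' => by simp [a, Matrix.mul_apply]
  have hau : ∀ h, IsUnit (a h) := fun h =>
    IsUnit.of_mul_eq_one (a h⁻¹) (by rw [← ham, mul_inv_cancel, ha1])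
  let v : G → π.ker := fun g => ⟨g * ((π g : H) : G)⁻¹, by rw [MonoidHom.mem_ker, map_mul, map_inv, hπ, mul_inv_cancel]⟩
  let b : G → ZMod p := fun g => c (v g) 0
  have hb : ∀ g g', b (g * g') = a (π g) * b g' + b g := by
    intro g g'
    let w : π.ker := ⟨((π g : H) : G) * (v g') * ((π g : H) : G)⁻¹, by
      simpa using (inferInstance : π.ker.Normal).conj_mem _ (v g').2 ((π g : H) : G)⟩
    have h1 : v (g * g') = v g * w := Subtype.ext (by simp [v, w, mul_assoc])
    have h2 := congrFun (hconj (π g) (v g') w rfl) 0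
    show c (v (g * g')) 0 = a (π g) * c (v g') 0 + c (v g) 0
    rw [h1, hcm, Pi.add_apply, h2, add_comm]
    congr 1
    show ((ρ (π g) : Matrix (Fin 1) (Fin 1) (ZMod p)) *ᵥ c (v g')) 0 = _
    rw [Matrix.mulVec, dotProduct, Fin.sum_univ_one]
  let φ : G → Equiv.Perm (ZMod p) := fun g =>
    { toFun := fun x => a (π g) * x + b g
      invFun := fun x => ((hau (π g)).unit⁻¹ : (ZMod p)ˣ) * (x - b g)
      left_inv := fun x => by dsimp only; rw [add_sub_cancel_right, ← mul_assoc, IsUnit.val_inv_mul, one_mul]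
      right_inv := fun x => by dsimp only; rw [← mul_assoc, IsUnit.mul_val_inv, one_mul, sub_add_cancel] }
  have hφm : ∀ g g', φ (g * g') = φ g * φ g' := fun g g' => Equiv.ext fun x => by
    show a (π (g * g')) * x + b (g * g') = a (π g) * (a (π g') * x + b g') + b g
    rw [map_mul, ham, hb]
    ring
  let Φ : G →* ↥(Cfsg.affineGroup (ZMod p)) :=
    MonoidHom.mk' (fun g => ⟨φ g, ⟨(hau (π g)).unit, b g, fun x => rfl⟩⟩) fun g g' => Subtype.ext (hφm g g')
  refine ⟨MulEquiv.ofBijective Φ ⟨(injective_iff_map_eq_one Φ).2 fun g hg => ?_, ?_⟩⟩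
  · have h : ∀ x, a (π g) * x + b g = x := fun x => Equiv.congr_fun (congrArg Subtype.val hg) x
    have hb0 : b g = 0 := by simpa using h 0
    have ha0 : a (π g) = 1 := by simpa [hb0] using h 1
    have hπg : π g = 1 := hρ (Units.ext (by
      ext i j
      fin_cases i; fin_cases j
      simpa [a] using ha0))
    have hc1 : c 1 = 0 := by
      have h := hcm 1 1
      rw [one_mul] at h
      exact add_eq_left.1 h.symm
    have hv : v g = 1 := hcb.1 (by
      rw [hc1]; ext i; fin_cases i; exact hb0)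
    simpa [v, hπg] using congrArg Subtype.val hv
  · rintro ⟨σ, u, d, hσ⟩
    obtain ⟨h, hh⟩ := ht (fun _ => 1) (fun _ => (u : ZMod p)) (fun h => one_ne_zero (congrFun h 0))
      (fun h => u.ne_zero (congrFun h 0))
    obtain ⟨w, hw⟩ := hcb.2 (fun _ => d)
    have hπg : π ((w : G) * (h : G)) = h := by rw [map_mul, MonoidHom.mem_ker.1 w.2, one_mul, hπ]
    have hvg : v ((w : G) * h) = w := Subtype.ext (by simp [v, hπg])
    refine ⟨(w : G) * h, Subtype.ext (Equiv.ext fun x => ?_)⟩
    show a (π ((w : G) * h)) * x + b ((w : G) * h) = σ x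
    rw [hσ, hπg]
    have h0 := congrFun hh 0
    simp [Matrix.mulVec, dotProduct] at h0
    show a h * x + c (v ((w : G) * h)) 0 = _
    rw [hvg, hw, show a h = (u : ZMod p) from h0]

/-- The main theorem. -/
theorem main {G : Type*} [Group G] [Finite G] (p : ℕ) [hp : Fact p.Prime] (hsolv : Cfsg.IsPSolvable p G)
    (hdiv : p ∣ Nat.card G) (hc : PConj p G) :
    p ≤ Nat.card (RegClasses p G) ∨
      (Nat.card (RegClasses p G) = p - 1 ∧ Nonempty (G ≃* ↥(Cfsg.affineGroup (ZMod p)))) ∨
      (p = 11 ∧ Nat.card (RegClasses p G) = 9 ∧ (Nat.card G = 121 * 120 ∧ ∃ H : Subgroup G,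
        Cfsg.IsFrobeniusComplement H ∧ Nonempty (↥H ≃* Matrix.SpecialLinearGroup (Fin 2) (ZMod 5)))) := by
  haveI : Finite (ConjClasses G) := Finite.of_surjective _ ConjClasses.mk_surjective
  by_cases hk : p ≤ Nat.card (RegClasses p G)
  · exact Or.inl hk
  right
  set N := Cfsg.pPrimeCore p G
  set f := QuotientGroup.mk' N
  have hf : Function.Surjective f := QuotientGroup.mk'_surjective N
  have hNp : ¬ p ∣ Nat.card N := fun h => by
    have := Nat.Coprime.symm (CfsgLib.Solvable.Cores.coprime_card_pPrimeCore (G := G) p)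
    exact (hp.out.coprime_iff_not_dvd.1 this) h
  have hdivQ : p ∣ Nat.card (G ⧸ N) := by
    have h := N.card_eq_card_quotient_mul_card_subgroup
    exact ((hp.out.dvd_mul).1 (h ▸ hdiv)).resolve_right hNp
  obtain ⟨n, H, π, ρ, c, hn, hπ, hH, hV, hcb, hcm, hconj, hρ, ht⟩ :=
    exists_data (CfsgLib.Fusion.PSolvable.psolvable_quotient hsolv N) CfsgLib.Components.pPrimeCore_quotient_eq_bot
      hdivQ (PConj.map f hp.out hc hf)
  haveI : Finite (ConjClasses (G ⧸ N)) := Finite.of_surjective _ ConjClasses.mk_surjective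
  have hsurj := regMap_surjective (p := p) f hp.out hf
  have hle1 := card_conjClasses_le_reg π hπ hH
  have hle2 := Nat.card_le_card_of_surjective _ hsurj
  haveI : Finite (ConjClasses H) := Finite.of_surjective _ ConjClasses.mk_surjective
  have hkH : ¬ p ≤ Nat.card (ConjClasses H) := fun h => hk (h.trans (hle1.trans hle2))
  have hlt : N ≠ ⊥ → Nat.card (RegClasses p (G ⧸ N)) < Nat.card (RegClasses p G) := by
    intro hN
    refine lt_of_le_of_ne hle2 fun he => ?_
    obtain ⟨⟨u, huN⟩, hu1⟩ := Subgroup.ne_bot_iff_exists_ne_one.1 hN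
    have hbij := (Nat.bijective_iff_surjective_and_card (regMap (p := p) f)).2 ⟨hsurj, he.symm⟩
    have hur : ¬ p ∣ orderOf u := fun h => hNp (h.trans (by
      rw [show u = ((⟨u, huN⟩ : N) : G) from rfl, Subgroup.orderOf_coe]; exact orderOf_dvd_natCard _))
    have h1 : (⟨ConjClasses.mk u, u, rfl, hur⟩ : RegClasses p G) =
        ⟨ConjClasses.mk 1, 1, rfl, by rw [orderOf_one]; exact hp.out.not_dvd_one⟩ :=
      hbij.1 (Subtype.ext (ConjClasses.mk_eq_mk_iff_isConj.2 (by
        show IsConj (f u) (f 1)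
        rw [map_one, show f u = 1 from (QuotientGroup.eq_one_iff u).2 huN])))
    exact hu1 (Subtype.ext (isConj_one_left.1 (ConjClasses.mk_eq_mk_iff_isConj.1 (congrArg Subtype.val h1))))
  rcases Nat.lt_or_ge 1 n with hn2 | hn1
  swap
  · left
    obtain rfl : n = 1 := by omega
    have hcommH : ∀ a b : H, a * b = b * a := fun a b => hρ (Units.ext (by
      rw [map_mul, map_mul, Units.val_mul, Units.val_mul]
      ext i j
      fin_cases i; fin_cases j
      simp [Matrix.mul_apply, mul_comm]))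
    have hkH' : Nat.card (ConjClasses H) = Nat.card H := (Nat.card_congr (Equiv.ofBijective ConjClasses.mk
      ⟨fun a b h => by
        obtain ⟨g, hg⟩ := isConj_iff.1 (ConjClasses.mk_eq_mk_iff_isConj.1 h)
        rw [← hg, hcommH g a, mul_inv_cancel_right], ConjClasses.mk_surjective⟩)).symm
    have hdvd := pow_sub_one_dvd_card Nat.one_pos ht
    rw [pow_one] at hdvd
    have hcardH : p - 1 ≤ Nat.card H := Nat.le_of_dvd Nat.card_pos hdvd
    have hN : N = ⊥ := by
      by_contra hN
      have := hlt hN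
      omega
    have hff : Function.Bijective f := ⟨by
      rw [← MonoidHom.ker_eq_bot_iff, QuotientGroup.ker_mk', hN], hf⟩
    obtain ⟨ea⟩ := equiv_affine π hπ ρ c hcb hcm hconj hρ ht
    exact ⟨by omega, ⟨(MulEquiv.ofBijective f hff).trans ea⟩⟩
  right
  have hdvd := pow_sub_one_dvd_card (by omega) ht
  have hp5 : 5 ≤ p := by
    by_contra hp5
    apply hkH
    have h2 := hp.out.two_le
    have hbig : 3 ≤ Nat.card H := by
      have h1 := Nat.le_of_dvd Nat.card_pos hdvd
      have : 2 ^ 2 ≤ p ^ n := le_trans (Nat.pow_le_pow_left h2 2) (Nat.pow_le_pow_right hp.out.pos hn2)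
      omega
    obtain ⟨x, hx⟩ := Finite.one_lt_card_iff_nontrivial.1 (show 1 < Nat.card H by omega) |>.exists_pair_ne
    have hk2 : 2 ≤ Nat.card (ConjClasses H) := by
      obtain ⟨y, hy⟩ := hx
      rcases eq_or_ne x 1 with rfl | hx1
      · exact Finite.one_lt_card_iff_nontrivial.2 ⟨⟨ConjClasses.mk 1, ConjClasses.mk y, fun h =>
          hy (isConj_one_right.1 (ConjClasses.mk_eq_mk_iff_isConj.1 h)).symm⟩⟩
      · exact Finite.one_lt_card_iff_nontrivial.2 ⟨⟨ConjClasses.mk 1, ConjClasses.mk x, fun h =>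
          hx1 (isConj_one_right.1 (ConjClasses.mk_eq_mk_iff_isConj.1 h))⟩⟩
    rcases (show p = 2 ∨ p = 3 by
      have : p ≠ 4 := fun h => absurd (h ▸ hp.out) (by decide)
      omega) with rfl | rfl
    · exact hk2
    · by_contra hk3
      obtain ⟨t, ht2⟩ : ∃ t : H, t ≠ 1 := by
        by_contra hall
        push Not at hall
        have : Nat.card H ≤ 1 := Finite.card_le_one_iff_subsingleton.2 ⟨fun a b => (hall a).trans (hall b).symm⟩
        omega
      have hall : ∀ y : H, y ≠ 1 → IsConj t y := by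
        intro y hy
        rw [← ConjClasses.mk_eq_mk_iff_isConj]
        by_contra hne
        letI := Fintype.ofFinite (ConjClasses H)
        have : ({ConjClasses.mk 1, ConjClasses.mk t, ConjClasses.mk y} : Finset (ConjClasses H)).card = 3 := by
          rw [Finset.card_insert_of_notMem, Finset.card_pair hne]
          simp only [Finset.mem_insert, Finset.mem_singleton, ConjClasses.mk_eq_mk_iff_isConj, not_or, isConj_one_right]
          exact ⟨fun h => ht2 h, fun h => hy h⟩
        have := Finset.card_le_univ ({ConjClasses.mk 1, ConjClasses.mk t, ConjClasses.mk y} : Finset (ConjClasses H))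
        rw [Nat.card_eq_fintype_card] at hk3
        omega
      have h1 : Nat.card {z // IsConj t z} = Nat.card H - 1 := by
        letI := Fintype.ofFinite H
        rw [Nat.card_congr (Equiv.subtypeEquivRight (q := fun z : H => z ≠ 1) fun z =>
          ⟨fun h h1 => ht2 (by rw [h1] at h; exact isConj_one_left.1 h), hall z⟩), Nat.card_eq_fintype_card,
          Nat.card_eq_fintype_card, Fintype.card_subtype_compl, Fintype.card_subtype_eq]
      rw [card_conjugates] at h1
      have h3 := (Subgroup.centralizer ({t} : Set H)).index_dvd_card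
      rw [h1] at h3
      have h4 : Nat.card H - 1 ∣ 1 := by
        have h5 := Nat.dvd_sub h3 (dvd_refl (Nat.card H - 1))
        rwa [show Nat.card H - (Nat.card H - 1) = 1 by omega] at h5
      have := Nat.le_of_dvd Nat.one_pos h4
      omega
  rcases Nat.lt_or_ge 2 n with hn3 | hn2'
  · exact absurd (le_card_conjClasses_of_three_le hH hρ ht hp5 hn3) hkH
  obtain rfl : n = 2 := by omega
  obtain ⟨rfl, hcard, ⟨e⟩⟩ := (le_card_conjClasses_two hH hρ ht hp5).resolve_left hkH
  have hk9 : Nat.card (ConjClasses H) = 9 := by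
    haveI : Fact (Nat.Prime 5) := ⟨Nat.prime_five⟩
    have h1 := Cfsg.Agent.S2325.result (F := ZMod 5) (by rw [ZMod.card]; decide)
    rw [ZMod.card] at h1
    refine le_antisymm ?_ ?_ <;> rw [← show Nat.card (ConjClasses L25) = 9 from h1]
    · exact Nat.card_le_card_of_surjective _ (ConjClasses.map_surjective (f := e.symm.toMonoidHom) e.symm.surjective)
    · exact Nat.card_le_card_of_surjective _ (ConjClasses.map_surjective (f := e.toMonoidHom) e.surjective)
  have hc1 : c 1 = 0 := by
    have h := hcm 1 1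
    rw [one_mul] at h
    exact add_eq_left.1 h.symm
  have hfpf : ∀ h : H, h ≠ 1 → ∀ v ∈ π.ker, (h : G ⧸ N) * v = v * h → v = 1 := by
    intro h hh v hv hcomm
    by_contra hv1
    have h0 : c ⟨v, hv⟩ ≠ 0 := fun h0 => hv1 (congrArg Subtype.val (hcb.1 (h0.trans hc1.symm)))
    have h2 := hconj h ⟨v, hv⟩ ⟨v, hv⟩ (by rw [eq_mul_inv_iff_mul_eq]; exact hcomm.symm)
    exact hh (regular_of_card two_pos ht (by rw [hcard]; norm_num) h _ h0 h2.symm)
  have hupper : Nat.card (RegClasses 11 (G ⧸ N)) ≤ Nat.card (ConjClasses H) := by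
    refine Nat.card_le_card_of_injective (fun cl => ConjClasses.map π cl.1) ?_
    rintro ⟨c₁, g₁, rfl, hg₁⟩ ⟨c₂, g₂, rfl, hg₂⟩ he
    refine Subtype.ext (ConjClasses.mk_eq_mk_iff_isConj.2 ?_)
    have key : ∀ g : G ⧸ N, ¬ 11 ∣ orderOf g → IsConj g ((π g : H) : G ⧸ N) := by
      intro g hg
      set h := π g
      by_cases hh : h = 1
      · have hgk : g ∈ π.ker := hh
        have h1 : orderOf g = 1 := by
          have h2 := orderOf_dvd_natCard (⟨g, hgk⟩ : π.ker)
          rw [← Subgroup.orderOf_coe, hV] at h2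
          exact Nat.eq_one_of_dvd_coprimes
            (((Nat.Prime.coprime_iff_not_dvd (by norm_num)).2 hg).pow_left 2) h2 dvd_rfl
        rw [orderOf_eq_one_iff.1 h1, hh]
        exact IsConj.refl 1
      have hinj : Function.Bijective (fun v : π.ker => (⟨(v : G ⧸ N) * h * (v : G ⧸ N)⁻¹ * (h : G ⧸ N)⁻¹, by
          simp [MonoidHom.mem_ker, hπ, MonoidHom.mem_ker.1 v.2]⟩ : π.ker)) := by
        rw [Nat.bijective_iff_injective_and_card]
        refine ⟨fun a b hab => ?_, rfl⟩
        have h1 : (a : G ⧸ N) * h * (a : G ⧸ N)⁻¹ = (b : G ⧸ N) * h * (b : G ⧸ N)⁻¹ :=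
          mul_right_cancel (congrArg Subtype.val hab)
        have h2 : ((b⁻¹ * a : π.ker) : G ⧸ N) = 1 := hfpf h hh _ (b⁻¹ * a).2 (by
          rw [Subgroup.coe_mul, Subgroup.coe_inv]
          calc (h : G ⧸ N) * ((b : G ⧸ N)⁻¹ * a) =
              (b : G ⧸ N)⁻¹ * ((b : G ⧸ N) * h * (b : G ⧸ N)⁻¹) * a := by simp [mul_assoc]
            _ = _ := by rw [← h1]; simp [mul_assoc])
        exact (inv_mul_eq_one.1 (Subtype.ext h2)).symm
      obtain ⟨v, hv⟩ := hinj.2 ⟨g * (h : G ⧸ N)⁻¹, by
        rw [MonoidHom.mem_ker, map_mul, map_inv, hπ, mul_inv_cancel]⟩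
      refine (isConj_iff.2 ⟨(v : G ⧸ N), ?_⟩).symm
      exact mul_right_cancel (congrArg Subtype.val hv)
    have he' : IsConj ((π g₁ : H) : G ⧸ N) ((π g₂ : H) : G ⧸ N) :=
      H.subtype.map_isConj (ConjClasses.mk_eq_mk_iff_isConj.1 he)
    exact (key g₁ hg₁).trans (he'.trans (key g₂ hg₂).symm)
  have hN : N = ⊥ := by
    by_contra hN
    refine false_of_cover f hf (by rw [QuotientGroup.ker_mk']; exact hNp) (by rw [QuotientGroup.ker_mk']; exact hN)
      π hπ (by rw [hV]; norm_num) hfpf e ?_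
    omega
  have hff : Function.Bijective f := ⟨by rw [← MonoidHom.ker_eq_bot_iff, QuotientGroup.ker_mk', hN], hf⟩
  let φ := MulEquiv.ofBijective f hff
  refine ⟨rfl, ?_, ?_, H.map φ.symm.toMonoidHom, ⟨?_, ?_, ?_⟩, ⟨(φ.symm.subgroupMap H).symm.trans e⟩⟩
  · have : Nat.card (RegClasses 11 G) ≤ Nat.card (RegClasses 11 (G ⧸ N)) := by
      refine Nat.card_le_card_of_injective (regMap f) fun a b h => ?_
      obtain ⟨x, hx, -⟩ := a.2
      obtain ⟨y, hy, -⟩ := b.2
      refine Subtype.ext ?_
      rw [← hx, ← hy, ConjClasses.mk_eq_mk_iff_isConj]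
      have h1 := congrArg Subtype.val h
      simp only [regMap, ← hx, ← hy] at h1
      have h2 := φ.symm.toMonoidHom.map_isConj (ConjClasses.mk_eq_mk_iff_isConj.1 h1)
      change IsConj (φ.symm (φ x)) (φ.symm (φ y)) at h2
      rwa [φ.symm_apply_apply, φ.symm_apply_apply] at h2
    omega
  · rw [Nat.card_congr φ.toEquiv, ← π.ker.card_mul_index, Subgroup.index_ker,
      (MonoidHom.range_eq_top (f := π)).2 (fun h => ⟨h, hπ h⟩), Subgroup.card_top, hV, hcard]
    norm_num
  · intro h0
    have h1 := Subgroup.card_map_of_injective (K := H) (f := φ.symm.toMonoidHom) φ.symm.injective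
    rw [show H.map φ.symm.toMonoidHom = ⊥ from h0, Subgroup.card_bot, hcard] at h1
    omega
  · intro h0
    have h1 := Subgroup.card_map_of_injective (K := H) (f := φ.symm.toMonoidHom) φ.symm.injective
    rw [show H.map φ.symm.toMonoidHom = ⊤ from h0, Subgroup.card_top, Nat.card_congr φ.toEquiv,
      ← π.ker.card_mul_index, Subgroup.index_ker, (MonoidHom.range_eq_top (f := π)).2 (fun h => ⟨h, hπ h⟩),
      Subgroup.card_top, hV, hcard] at h1
    omega
  · intro g hg
    rw [eq_bot_iff]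
    rintro y ⟨⟨h₁, hh₁, rfl⟩, hy⟩
    replace hy := (Subgroup.mem_pointwise_smul_iff_inv_smul_mem (a := MulAut.conj g)).1 hy
    obtain ⟨h₂, hh₂, he⟩ := hy
    set q := φ g
    have he' : h₂ = q⁻¹ * h₁ * q := by
      have := congrArg φ he
      simpa [q, mul_assoc] using this
    rw [Subgroup.mem_bot]
    show φ.symm h₁ = 1
    have hq : q ∉ H := fun hq => hg ⟨q, hq, φ.symm_apply_apply g⟩
    by_contra hne
    have hh1 : (⟨h₁, hh₁⟩ : H) ≠ 1 := fun h => hne (by
      rw [show h₁ = 1 from congrArg Subtype.val h, map_one])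
    set w := q * ((π q : H) : G ⧸ N)⁻¹ with hw
    have hwk : w ∈ π.ker := by rw [MonoidHom.mem_ker, hw, map_mul, map_inv, hπ, mul_inv_cancel]
    -- `w` commutes with `h₁`
    have h3 : ((π q : H) : G ⧸ N) * h₂ * ((π q : H) : G ⧸ N)⁻¹ = h₁ := by
      have h4 : π h₂ = (π q)⁻¹ * π h₁ * π q := by rw [he', map_mul, map_mul, map_inv]
      rw [hπ ⟨h₁, hh₁⟩, hπ ⟨h₂, hh₂⟩] at h4
      have h5 := congrArg (fun t : H => (π q : H) * t * (π q)⁻¹) h4
      simp only [mul_assoc, mul_inv_cancel_left, mul_inv_cancel, mul_one] at h5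
      have h6 := congrArg Subtype.val h5
      simpa [mul_assoc] using h6
    have hcomm : h₁ * w = w * h₁ := by
      calc h₁ * w = q * h₂ * ((π q : H) : G ⧸ N)⁻¹ := by rw [he', hw]; simp [mul_assoc]
        _ = w * h₁ := by rw [← h3, hw]; simp [mul_assoc]
    have hw1 := hfpf ⟨h₁, hh₁⟩ hh1 w hwk hcomm
    exact hq (by rw [show q = ((π q : H) : G ⧸ N) from mul_inv_eq_one.1 hw1]; exact (π q).2)

end CfsgLib.Frobenius.TwoClassPReg
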