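import Cfsg.Agent.Lib.Frobenius.TwoClassPReg.Two
import Cfsg.Agent.Lib.Blocks.Parts
import Cfsg.Agent.Lib.Fusion.PSolvable
import Cfsg.Agent.Lib.Components.PComponents
import Mathlib.Algebra.Module.ZMod
import Mathlib.LinearAlgebra.Matrix.ToLin
import Mathlib.LinearAlgebra.FiniteDimensional.Lemmas

/-!
# `p`-solvable groups with one class of nontrivial `p`-elements: the quotient by `O_{p'}`
-/

set_option autoImplicit false

open scoped Classical
open Matrix

namespace CfsgLib.Frobenius.TwoClassPReg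

/-- The conjugacy classes of `p`-regular elements. -/
abbrev RegClasses (p : ℕ) (G : Type*) [Group G] : Type _ :=
  {c : ConjClasses G // ∃ g : G, ConjClasses.mk g = c ∧ ¬ p ∣ orderOf g}

/-- All nontrivial `p`-elements are conjugate. -/
def PConj (p : ℕ) (G : Type*) [Group G] : Prop :=
  ∀ x y : G, x ≠ 1 → y ≠ 1 → (∃ k : ℕ, orderOf x = p ^ k) → (∃ k : ℕ, orderOf y = p ^ k) → IsConj x y

section Lifts

variable {p : ℕ} {G Q : Type*} [Group G] [Finite G] [Group Q] (f : G →* Q)

/-- A `p`-regular element of the image has a `p`-regular preimage among the powers of any preimage. -/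
theorem exists_regular_lift (hp : p.Prime) (g : G) (hg : ¬ p ∣ orderOf (f g)) :
    ∃ y ∈ Subgroup.zpowers g, f y = f g ∧ ¬ p ∣ orderOf y := by
  obtain ⟨x, y, -, he, -, hy, ⟨k, hk⟩, hxz, hyz⟩ := CfsgLib.Blocks.exists_isPPart hp g
  refine ⟨y, hyz, ?_, hy⟩
  obtain ⟨i, rfl⟩ := Subgroup.mem_zpowers_iff.1 hxz
  have h1 : orderOf (f (g ^ i)) ∣ p ^ k := hk ▸ orderOf_map_dvd f _
  have h2 : orderOf (f (g ^ i)) ∣ orderOf (f g) := by
    rw [map_zpow]
    exact orderOf_dvd_of_mem_zpowers (Subgroup.zpow_mem _ (Subgroup.mem_zpowers _) i)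
  have h3 : f (g ^ i) = 1 := orderOf_eq_one_iff.1
    (Nat.eq_one_of_dvd_coprimes ((hp.coprime_iff_not_dvd.2 hg).pow_left k) h1 h2)
  conv_rhs => rw [← he, map_mul, h3, one_mul]

/-- A `p`-element of the image has a `p`-element preimage. -/
theorem exists_pElement_lift (hp : p.Prime) (g : G) (hg : ∃ k, orderOf (f g) = p ^ k) :
    ∃ x : G, f x = f g ∧ ∃ k, orderOf x = p ^ k := by
  obtain ⟨k, hk⟩ := hg
  obtain ⟨x, y, -, he, -, hy, hx, -, hyz⟩ := CfsgLib.Blocks.exists_isPPart hp g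
  refine ⟨x, ?_, hx⟩
  obtain ⟨i, rfl⟩ := Subgroup.mem_zpowers_iff.1 hyz
  have h1 : orderOf (f (g ^ i)) ∣ p ^ k := by
    rw [map_zpow, ← hk]
    exact orderOf_dvd_of_mem_zpowers (Subgroup.zpow_mem _ (Subgroup.mem_zpowers _) i)
  have h3 : f (g ^ i) = 1 := orderOf_eq_one_iff.1
    (Nat.eq_one_of_dvd_coprimes ((hp.coprime_iff_not_dvd.2 hy).pow_left k) h1 (orderOf_map_dvd f _))
  conv_rhs => rw [← he, map_mul, h3, mul_one]

theorem PConj.map (hp : p.Prime) (hc : PConj p G) (hf : Function.Surjective f) : PConj p Q := by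
  intro x y hx hy hox hoy
  obtain ⟨a, rfl⟩ := hf x
  obtain ⟨b, rfl⟩ := hf y
  obtain ⟨a', ha, hao⟩ := exists_pElement_lift f hp a hox
  obtain ⟨b', hb, hbo⟩ := exists_pElement_lift f hp b hoy
  rw [← ha] at hx ⊢
  rw [← hb] at hy ⊢
  exact f.map_isConj (hc a' b' (fun h => hx (by rw [h, map_one])) (fun h => hy (by rw [h, map_one])) hao hbo)

omit [Finite G] in
theorem orderOf_not_dvd_map {g : G} (hg : ¬ p ∣ orderOf g) : ¬ p ∣ orderOf (f g) :=
  fun h => hg (h.trans (orderOf_map_dvd f g))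

/-- The induced map on `p`-regular classes. -/
def regMap (c : RegClasses p G) : RegClasses p Q :=
  ⟨ConjClasses.map f c.1, by
    obtain ⟨g, hg, hr⟩ := c.2
    exact ⟨f g, by rw [← hg]; rfl, orderOf_not_dvd_map f hr⟩⟩

theorem regMap_surjective (hp : p.Prime) (hf : Function.Surjective f) :
    Function.Surjective (regMap (p := p) f) := by
  rintro ⟨c, q, hq, hr⟩
  obtain ⟨g, rfl⟩ := hf q
  obtain ⟨y, -, hy, hyr⟩ := exists_regular_lift f hp g hr
  exact ⟨⟨ConjClasses.mk y, y, rfl, hyr⟩, Subtype.ext (by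
    show ConjClasses.mk (f y) = c
    rw [hy, hq])⟩

end Lifts

section Core

variable {p : ℕ} [hp : Fact p.Prime] {G : Type*} [Group G] [Finite G]

omit [Finite G] in
/-- Coordinates on an elementary abelian group. -/
theorem exists_coords (A : Type*) [Group A] [Finite A] (hcomm : ∀ a b : A, a * b = b * a)
    (hexp : ∀ a : A, a ^ p = 1) :
    ∃ (n : ℕ) (c : A → Fin n → ZMod p), Function.Bijective c ∧ (∀ a b, c (a * b) = c a + c b) ∧
      Nat.card A = p ^ n := by
  letI : CommGroup A := { mul_comm := hcomm }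
  have hexpA : ∀ a : Additive A, p • a = 0 := fun a => Additive.toMul.injective (hexp (Additive.toMul a))
  obtain ⟨iM⟩ : Nonempty (Module (ZMod p) (Additive A)) := ⟨AddCommGroup.zmodModule hexpA⟩
  letI := iM
  haveI : Finite (Additive A) := Finite.of_equiv A Additive.ofMul
  obtain ⟨ε⟩ : Nonempty (Additive A ≃ₗ[ZMod p] (Fin (Module.finrank (ZMod p) (Additive A)) → ZMod p)) :=
    FiniteDimensional.nonempty_linearEquiv_of_finrank_eq (by rw [Module.finrank_fin_fun])
  refine ⟨_, fun a => ε (Additive.ofMul a), ε.bijective.comp Additive.ofMul.bijective,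
    fun a b => map_add ε (Additive.ofMul a) (Additive.ofMul b), ?_⟩
  rw [Nat.card_congr (Additive.ofMul (α := A)), Module.natCard_eq_pow_finrank (K := ZMod p), Nat.card_zmod]

/-- The structure of `G` when `O_{p'}(G) = 1`: `G = V H` with `V` a vector space and `H` transitive. -/
theorem exists_data (hsolv : Cfsg.IsPSolvable p G) (hO : Cfsg.pPrimeCore p G = ⊥) (hdiv : p ∣ Nat.card G)
    (hc : PConj p G) :
    ∃ (n : ℕ) (H : Subgroup G) (π : G →* H) (ρ : H →* GL (Fin n) (ZMod p)) (c : π.ker → Fin n → ZMod p),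
      1 ≤ n ∧ (∀ h : H, π h = h) ∧ ¬ p ∣ Nat.card H ∧ Nat.card π.ker = p ^ n ∧
      Function.Bijective c ∧ (∀ a b : π.ker, c (a * b) = c a + c b) ∧
      (∀ (h : H) (a b : π.ker), (b : G) = (h : G) * a * (h : G)⁻¹ →
        c b = (ρ h : Matrix (Fin n) (Fin n) (ZMod p)) *ᵥ c a) ∧
      Function.Injective ρ ∧ TransNonzero ρ := by
  set V := Cfsg.pCore p G with hV
  haveI : Nontrivial G := Finite.one_lt_card_iff_nontrivial.1
    (lt_of_lt_of_le hp.out.one_lt (Nat.le_of_dvd Nat.card_pos hdiv))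
  have hVne : V ≠ ⊥ := (CfsgLib.Fusion.PSolvable.pCore_or_pPrimeCore_ne_bot hsolv).resolve_right (fun h => h hO)
  have hVp : IsPGroup p V := CfsgLib.Solvable.Cores.isPGroup_pCore p
  haveI : Nontrivial V := (Subgroup.nontrivial_iff_ne_bot V).2 hVne
  haveI := hVp.center_nontrivial
  obtain ⟨⟨z, hz⟩, hz1⟩ := exists_ne (1 : Subgroup.center V)
  have hord : ∀ {x : G}, x ∈ V → ∃ k, orderOf x = p ^ k := fun {x} hx => by
    obtain ⟨k, hk⟩ := IsPGroup.iff_orderOf.1 hVp ⟨x, hx⟩
    exact ⟨k, by rw [← hk, ← Subgroup.orderOf_coe]⟩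
  have hz1' : (z : G) ≠ 1 := fun h => hz1 (Subtype.ext (Subtype.ext h))
  haveI hCn : ((Subgroup.center V).map V.subtype).Normal := inferInstance
  have hall : ∀ x : G, (∃ k, orderOf x = p ^ k) → x ∈ (Subgroup.center V).map V.subtype := by
    intro x hx
    by_cases hx1 : x = 1
    · rw [hx1]; exact one_mem _
    obtain ⟨g, hg⟩ := isConj_iff.1 (hc z x hz1' hx1 (hord z.2) hx)
    rw [← hg]
    exact hCn.conj_mem _ (Subgroup.mem_map_of_mem V.subtype hz) g
  have hallV : ∀ x : G, (∃ k, orderOf x = p ^ k) → x ∈ V := fun x hx => by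
    obtain ⟨y, -, rfl⟩ := hall x hx
    exact y.2
  have hcomm : ∀ a b : V, a * b = b * a := by
    intro a b
    obtain ⟨a', ha', he⟩ := hall a (hord a.2)
    have : a' = a := Subtype.ext he
    rw [← this]
    exact (Subgroup.mem_center_iff.1 ha' b).symm
  haveI : Fact p.Prime := hp
  obtain ⟨t, ht⟩ := exists_prime_orderOf_dvd_card' (G := G) p hdiv
  have hexp : ∀ a : V, a ^ p = 1 := by
    intro a
    by_cases ha : a = 1
    · rw [ha, one_pow]
    have ha1 : (a : G) ≠ 1 := fun h => ha (Subtype.ext h)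
    have ht1 : t ≠ 1 := fun h => hp.out.one_lt.ne (by rw [← ht, h, orderOf_one])
    obtain ⟨g, hg⟩ := isConj_iff.1 (hc t a ht1 ha1 ⟨1, by rw [ht, pow_one]⟩ (hord a.2))
    refine Subtype.ext ?_
    rw [SubgroupClass.coe_pow, ← hg, conj_pow, ← ht, pow_orderOf_eq_one, mul_one, mul_inv_cancel, OneMemClass.coe_one]
  have hidx : ¬ p ∣ V.index := by
    let P : Sylow p G := default
    have hPV : (P : Subgroup G) ≤ V := fun x hx => hallV x (by
      obtain ⟨k, hk⟩ := IsPGroup.iff_orderOf.1 P.2 ⟨x, hx⟩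
      exact ⟨k, by rw [← hk, ← Subgroup.orderOf_coe]⟩)
    exact fun h => P.not_dvd_index (h.trans (Subgroup.index_dvd_of_le hPV))
  obtain ⟨H, hH⟩ := Subgroup.exists_right_complement'_of_coprime (N := V) (by
    obtain ⟨m, hm⟩ := IsPGroup.iff_card.1 hVp
    rw [hm]
    exact (hp.out.coprime_iff_not_dvd.2 hidx).pow_left m)
  have hHcard : Nat.card H = V.index := (hH.symm.index_eq_card).symm
  have hbij : Function.Bijective ((QuotientGroup.mk' V).comp H.subtype) := by
    refine ⟨(injective_iff_map_eq_one _).2 fun h hh => Subtype.ext ?_, fun q => ?_⟩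
    · exact Subgroup.disjoint_def.1 hH.disjoint ((QuotientGroup.eq_one_iff (h : G)).1 hh) h.2
    · obtain ⟨g, rfl⟩ := QuotientGroup.mk'_surjective V q
      obtain ⟨⟨x, y⟩, hxy⟩ := hH.2 g
      refine ⟨y, ?_⟩
      show QuotientGroup.mk' V (y : G) = _
      rw [← show (x : G) * (y : G) = g from hxy, map_mul, show QuotientGroup.mk' V (x : G) = 1 from
        (QuotientGroup.eq_one_iff _).2 x.2, one_mul]
  let e := MulEquiv.ofBijective _ hbij
  let π : G →* H := e.symm.toMonoidHom.comp (QuotientGroup.mk' V)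
  have hπ : ∀ h : H, π h = h := fun h => e.symm_apply_apply h
  have hker : π.ker = V := by
    ext g
    rw [MonoidHom.mem_ker]
    show e.symm (QuotientGroup.mk' V g) = 1 ↔ _
    rw [MulEquiv.map_eq_one_iff, QuotientGroup.mk'_apply, QuotientGroup.eq_one_iff]
  have hmemV : ∀ a : π.ker, (a : G) ∈ V := fun a => hker ▸ a.2
  have hkc : ∀ a b : π.ker, a * b = b * a := fun a b => Subtype.ext (show (a : G) * b = b * a from
    congrArg Subtype.val (hcomm ⟨(a : G), hmemV a⟩ ⟨(b : G), hmemV b⟩))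
  have hkexp : ∀ a : π.ker, a ^ p = 1 := fun a => Subtype.ext (by
    rw [SubgroupClass.coe_pow]; exact congrArg Subtype.val (hexp ⟨(a : G), hmemV a⟩))
  obtain ⟨n, c, hcb, hcm, hcard⟩ := exists_coords π.ker hkc hkexp
  let cE : π.ker ≃ (Fin n → ZMod p) := Equiv.ofBijective c hcb
  have hcs : ∀ v, c (cE.symm v) = v := cE.apply_symm_apply
  let T : H → (Fin n → ZMod p) →+ (Fin n → ZMod p) := fun h =>
    AddMonoidHom.mk' (fun v => c (MulAut.conjNormal (h : G) (cE.symm v))) fun v w => by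
      rw [← hcm, ← map_mul]
      refine congrArg c (congrArg _ (hcb.1 ?_))
      rw [hcm, hcs, hcs, hcs]
  let R : H → Matrix (Fin n) (Fin n) (ZMod p) := fun h => LinearMap.toMatrix' ((T h).toZModLinearMap p)
  have hR : ∀ h a, R h *ᵥ c a = c (MulAut.conjNormal (h : G) a) := fun h a => by
    rw [LinearMap.toMatrix'_mulVec]
    exact congrArg c (congrArg _ (cE.symm_apply_apply a))
  have hRm : ∀ h h', R (h * h') = R h * R h' := fun h h' => Matrix.ext_of_mulVec_single fun i => by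
    obtain ⟨a, ha⟩ := hcb.2 (Pi.single i 1)
    rw [← ha, ← Matrix.mulVec_mulVec, hR, hR, hR, Subgroup.coe_mul, map_mul, MulAut.mul_apply]
  have hR1 : R 1 = 1 := Matrix.ext_of_mulVec_single fun i => by
    obtain ⟨a, ha⟩ := hcb.2 (Pi.single i 1)
    rw [← ha, hR, Matrix.one_mulVec, OneMemClass.coe_one, map_one, MulAut.one_apply]
  let ρ : H →* GL (Fin n) (ZMod p) := MonoidHom.toHomUnits { toFun := R, map_one' := hR1, map_mul' := hRm }
  have hρ : ∀ h, (ρ h : Matrix (Fin n) (Fin n) (ZMod p)) = R h := fun h => rfl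
  have hconj : ∀ (h : H) (a b : π.ker), (b : G) = (h : G) * a * (h : G)⁻¹ →
      c b = (ρ h : Matrix (Fin n) (Fin n) (ZMod p)) *ᵥ c a := by
    intro h a b hb
    rw [hρ, hR]
    exact congrArg c (Subtype.ext (hb.trans (MulAut.conjNormal_apply _ _).symm))
  refine ⟨n, H, π, ρ, c, ?_, hπ, ?_, hcard, hcb, hcm, hconj, ?_, ?_⟩
  · by_contra hn
    rw [show n = 0 by omega, pow_zero, hker] at hcard
    exact (Finite.one_lt_card_iff_nontrivial.2 inferInstance).ne' hcard
  · rw [hHcard]; exact hidx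
  · rw [injective_iff_map_eq_one]
    intro h hh
    refine Subtype.ext (Subgroup.disjoint_def.1 hH.disjoint ?_ h.2)
    refine CfsgLib.Fusion.PSolvable.centralizer_pCore_le hsolv hO (Subgroup.mem_centralizer_iff.2 fun a ha => ?_)
    have hak : a ∈ π.ker := by rw [hker]; exact ha
    have h2 := hconj h ⟨a, hak⟩ (MulAut.conjNormal (h : G) ⟨a, hak⟩) (MulAut.conjNormal_apply _ _)
    rw [hh, Units.val_one, Matrix.one_mulVec] at h2
    have h3 := congrArg Subtype.val (hcb.1 h2)
    rw [MulAut.conjNormal_apply] at h3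
    exact (mul_inv_eq_iff_eq_mul.1 h3).symm
  · intro v w hv hw
    obtain ⟨a, rfl⟩ := hcb.2 v
    obtain ⟨b, rfl⟩ := hcb.2 w
    have hc0 : c 1 = 0 := by
      have h := hcm 1 1
      rw [one_mul] at h
      exact (add_eq_left.1 h.symm)
    have hne : ∀ a : π.ker, c a ≠ 0 → (a : G) ≠ 1 := fun a ha h => ha (by
      rw [show a = 1 from Subtype.ext h, hc0])
    obtain ⟨g, hg⟩ := isConj_iff.1 (hc a b (hne a hv) (hne b hw) (hord (hmemV a)) (hord (hmemV b)))
    refine ⟨π g, (hconj (π g) a b ?_).symm⟩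
    rw [← hg]
    set u := g * ((π g : H) : G)⁻¹
    have hu : u ∈ π.ker := by rw [MonoidHom.mem_ker, map_mul, map_inv, hπ, mul_inv_cancel]
    set a' : π.ker := MulAut.conjNormal ((π g : H) : G) a
    have ha' : (a' : G) = ((π g : H) : G) * a * ((π g : H) : G)⁻¹ := MulAut.conjNormal_apply _ _
    have h1 := congrArg Subtype.val (hkc (⟨u, hu⟩ : π.ker) a')
    simp only [Subgroup.coe_mul] at h1
    rw [← ha', ← mul_inv_eq_iff_eq_mul.2 h1, ha']
    simp [u, mul_assoc]

/-- The classes of the complement give `p`-regular classes. -/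
theorem card_conjClasses_le_reg {H : Subgroup G} (π : G →* H) (hπ : ∀ h : H, π h = h) (hH : ¬ p ∣ Nat.card H) :
    Nat.card (ConjClasses H) ≤ Nat.card (RegClasses p G) := by
  haveI : Finite (ConjClasses G) := Finite.of_surjective _ ConjClasses.mk_surjective
  refine Nat.card_le_card_of_injective (fun c => ⟨ConjClasses.map H.subtype c, by
    obtain ⟨h, rfl⟩ := ConjClasses.mk_surjective c
    exact ⟨(h : G), rfl, fun hd => hH (hd.trans (by rw [Subgroup.orderOf_coe]; exact orderOf_dvd_natCard h))⟩⟩) ?_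
  intro c c' he
  obtain ⟨a, rfl⟩ := ConjClasses.mk_surjective c
  obtain ⟨b, rfl⟩ := ConjClasses.mk_surjective c'
  have h1 : IsConj (a : G) (b : G) := ConjClasses.mk_eq_mk_iff_isConj.1 (congrArg Subtype.val he)
  have h2 := π.map_isConj h1
  rw [hπ, hπ] at h2
  exact ConjClasses.mk_eq_mk_iff_isConj.2 h2

end Core

end CfsgLib.Frobenius.TwoClassPReg
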