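import Cfsg.Agent.Lib.Frobenius.TwoClassPReg.Big
import Cfsg.Agent.Lib.Char.Constituent
import Cfsg.Agent.Lib.Char.Induced
import Cfsg.Agent.Lib.CharDeep.IrrTools
import Cfsg.Agent.Lib.KnownA.SL2Torus.Classes
import Cfsg.Agent.Lib.Solvable.Schmidt
import Cfsg.Agent.S4473
import Cfsg.Agent.S0689

/-!
# Transitive linear `p'`-groups of degree two with fewer than `p` classes: `SL(2, 5)` on `11 ^ 2`
-/

set_option autoImplicit false

namespace CfsgLib.Frobenius.TwoClassPReg

set_option synthInstance.maxSize 4096 in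
/-- The arithmetic table. -/
theorem table : ∀ q < 60, q.Prime → 5 ≤ q → ∀ N ∈ [12, 24, 60], ∀ z < 60, z ∣ q - 1 → q ^ 2 - 1 ∣ z * N →
    ¬ q ∣ z * N → (q = 5 ∧ z = 1 ∧ N = 24) ∨ (q = 7 ∧ z = 2 ∧ N = 24) ∨ (q = 11 ∧ z = 2 ∧ N = 60) ∨
      (q - 1) * N < z * N + 2 * z * (N - 1) + (if N = 60 then 12 else 2) * z := by
  decide +kernel

end CfsgLib.Frobenius.TwoClassPReg

open scoped Classical
open Matrix

namespace CfsgLib.Frobenius.TwoClassPReg

/-- Two matrices commuting with a non-scalar matrix of size two commute. -/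
theorem mat2_commute {F : Type*} [Field F] {g a b : Matrix (Fin 2) (Fin 2) F}
    (hg : ¬ (g 0 1 = 0 ∧ g 1 0 = 0 ∧ g 0 0 = g 1 1)) (ha : a * g = g * a) (hb : b * g = g * b) :
    a * b = b * a := by
  have hpar : ∀ a : Matrix (Fin 2) (Fin 2) F, a * g = g * a →
      a 0 1 * g 1 0 = g 0 1 * a 1 0 ∧ (a 0 0 - a 1 1) * g 0 1 = a 0 1 * (g 0 0 - g 1 1) ∧
      (a 0 0 - a 1 1) * g 1 0 = a 1 0 * (g 0 0 - g 1 1) := by
    intro a ha
    have e00 := congrFun (congrFun ha 0) 0
    have e01 := congrFun (congrFun ha 0) 1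
    have e10 := congrFun (congrFun ha 1) 0
    simp only [Matrix.mul_apply, Fin.sum_univ_two] at e00 e01 e10
    refine ⟨?_, ?_, ?_⟩
    · linear_combination e00
    · linear_combination e01
    · linear_combination -e10
  obtain ⟨a1, a2, a3⟩ := hpar a ha
  obtain ⟨b1, b2, b3⟩ := hpar b hb
  obtain ⟨c1, c2, c3⟩ : a 0 1 * b 1 0 = b 0 1 * a 1 0 ∧ (a 0 0 - a 1 1) * b 0 1 = a 0 1 * (b 0 0 - b 1 1) ∧
      (a 0 0 - a 1 1) * b 1 0 = a 1 0 * (b 0 0 - b 1 1) := by
    by_cases h1 : g 0 1 = 0
    · by_cases h2 : g 1 0 = 0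
      · have h3 : g 0 0 - g 1 1 ≠ 0 := fun h => hg ⟨h1, h2, sub_eq_zero.1 h⟩
        have x1 : a 0 1 = 0 := by
          have := a2; rw [h1, mul_zero] at this
          exact (mul_eq_zero.1 this.symm).resolve_right h3
        have x2 : a 1 0 = 0 := by
          have := a3; rw [h2, mul_zero] at this
          exact (mul_eq_zero.1 this.symm).resolve_right h3
        have x3 : b 0 1 = 0 := by
          have := b2; rw [h1, mul_zero] at this
          exact (mul_eq_zero.1 this.symm).resolve_right h3
        have x4 : b 1 0 = 0 := by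
          have := b3; rw [h2, mul_zero] at this
          exact (mul_eq_zero.1 this.symm).resolve_right h3
        simp [x1, x2, x3, x4]
      · have x1 : a 0 1 = 0 := by
          have := a1; rw [h1, zero_mul] at this
          exact (mul_eq_zero.1 this).resolve_right h2
        have x2 : b 0 1 = 0 := by
          have := b1; rw [h1, zero_mul] at this
          exact (mul_eq_zero.1 this).resolve_right h2
        refine ⟨by simp [x1, x2], by simp [x1, x2], mul_right_cancel₀ h2 ?_⟩
        linear_combination b 1 0 * a3 - a 1 0 * b3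
    · have hc1 : a 0 1 * b 1 0 = b 0 1 * a 1 0 := mul_right_cancel₀ h1 (by
        linear_combination (b 0 1) * a1 - (a 0 1) * b1)
      refine ⟨hc1, mul_right_cancel₀ h1 ?_, mul_right_cancel₀ h1 ?_⟩
      · linear_combination (b 0 1) * a2 - (a 0 1) * b2
      · linear_combination (b 1 0) * a2 - (a 1 0) * b2 + (g 0 0 - g 1 1) * hc1
  ext i j
  fin_cases i <;> fin_cases j <;> simp [Matrix.mul_apply, Fin.sum_univ_two]
  · linear_combination c1
  · linear_combination c2
  · linear_combination -c3
  · linear_combination -c1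

variable {p : ℕ} [hp : Fact p.Prime] {H : Type*} [Group H] [Finite H] {ρ : H →* GL (Fin 2) (ZMod p)}

/-- A noncentral element has an abelian centralizer. -/
theorem centralizer_comm (hρ : Function.Injective ρ) {g : H} (hg : g ∉ Subgroup.center H) :
    ∀ a ∈ Subgroup.centralizer ({g} : Set H), ∀ b ∈ Subgroup.centralizer ({g} : Set H), a * b = b * a := by
  intro a ha b hb
  refine hρ (Units.ext ?_)
  rw [map_mul, map_mul, Units.val_mul, Units.val_mul]
  refine mat2_commute (fun h => hg (Subgroup.mem_center_iff.2 fun x => hρ (Units.ext ?_))) (g := (ρ g : Matrix _ _ _))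
    ?_ ?_
  · rw [map_mul, map_mul, Units.val_mul, Units.val_mul]
    ext i j
    fin_cases i <;> fin_cases j <;> simp [Matrix.mul_apply, Fin.sum_univ_two, h.1, h.2.1, h.2.2, mul_comm]
  · rw [← Units.val_mul, ← Units.val_mul, ← map_mul, ← map_mul, Subgroup.mem_centralizer_singleton_iff.1 ha]
  · rw [← Units.val_mul, ← Units.val_mul, ← map_mul, ← map_mul, Subgroup.mem_centralizer_singleton_iff.1 hb]

/-- There is no abelian subgroup of index at most two. -/
def NoAb (H : Type*) [Group H] : Prop :=
  ∀ A : Subgroup H, (∀ a ∈ A, ∀ b ∈ A, a * b = b * a) → ¬ A.index ≤ 2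

omit [Finite H] in
theorem NoAb.noncomm (h : NoAb H) : ∃ a b : H, a * b ≠ b * a := by
  by_contra hc
  push Not at hc
  exact h ⊤ (fun a _ b _ => hc a b) (by rw [Subgroup.index_top]; norm_num)

/-- An abelian subgroup of index at most two gives at least `p` classes. -/
theorem le_of_not_noAb (ht : TransNonzero ρ) (hp5 : 5 ≤ p) (h : ¬ NoAb H) :
    p ≤ Nat.card (ConjClasses H) := by
  unfold NoAb at h
  push Not at h
  obtain ⟨A, hA, hi⟩ := h
  have h1 := card_le_card_conjClasses_mul_index A hA
  have h2 := A.card_mul_index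
  have h3 := Nat.le_of_dvd Nat.card_pos (pow_sub_one_dvd_card two_pos ht)
  set k := Nat.card (ConjClasses H)
  have h4 : p ^ 2 - 1 ≤ k * 4 := by
    rw [← h2] at h3
    refine h3.trans ((Nat.mul_le_mul h1 hi).trans ?_)
    calc k * A.index * 2 ≤ k * 2 * 2 := by gcongr
      _ = k * 4 := by ring
  by_contra hlt
  have h5 : p * 5 ≤ p ^ 2 := by nlinarith
  omega

/-- The centre has index 12, 24 or 60. -/
theorem index_center_cases (hH : ¬ p ∣ Nat.card H) (hρ : Function.Injective ρ) (hab : NoAb H) :
    (Subgroup.center H).index = 12 ∨ (Subgroup.center H).index = 24 ∨ (Subgroup.center H).index = 60 := by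
  letI := Fintype.ofFinite H
  obtain ⟨σ, hσ⟩ := exists_complex_lift hH ρ hρ
  set χ := σ.character
  have hχ : Cfsg.IsCharacter H χ := CfsgLib.Char.isCharacter_of_rep σ
  have h2 : χ 1 = 2 := by simp [χ, Representation.char_one]
  have hfaith : ∀ g : H, χ g = χ 1 → g = 1 := fun g hg => hσ (by
    rw [map_one]; exact eq_one_of_character_eq σ g hg)
  have hirr : Cfsg.IsIrrCharacter H χ := by
    by_contra hni
    obtain ⟨a, b, hab'⟩ := hab.noncomm
    refine hab' (CfsgLib.Char.comm_of_faithful_of_linear σ hσ (fun φ hφ hne => ?_) a b)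
    obtain ⟨m, c, hm, hc, hle, heq⟩ := CfsgLib.Char.IsCharacter.constituent_degree_le hχ hφ hne
    rw [h2] at hc
    have hc2 : c = 2 := by exact_mod_cast hc.symm
    have hm2 : m ≠ c := fun h => hni ((heq h).symm ▸ hφ)
    have hm0 : m ≠ 0 := fun h => CfsgLib.Blocks.irr_one_ne_zero ⟨φ, hφ⟩ (by show φ 1 = 0; rw [hm, h, Nat.cast_zero])
    rw [hm, show m = 1 by omega, Nat.cast_one]
  refine Cfsg.Agent.S4473.result ⟨χ, hirr⟩ hfaith (by simp [Cfsg.charDegree, h2]) ?_
  intro K hK θ hθ he
  change χ = _ at he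
  have he1 := congrFun he 1
  change χ 1 = _ at he1
  rw [h2, CfsgLib.Char.indFun_one] at he1
  obtain ⟨n, τ, hτ⟩ := hθ
  have hθ1 : θ 1 = (n : ℂ) := by simp [← hτ, Representation.char_one]
  rw [hθ1] at he1
  have hin : K.index * n = 2 := by exact_mod_cast he1.symm
  have hidx : K.index = 2 := by
    rcases (Nat.dvd_prime Nat.prime_two).1 (Dvd.intro n hin) with h | h
    · exact absurd (Subgroup.index_eq_one.1 h) hK
    · exact h
  have hn1 : n = 1 := by rw [hidx] at hin; omega
  haveI := Subgroup.normal_of_index_eq_two hidx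
  obtain ⟨f, hf⟩ := CfsgLib.CharDeep.IrrTools.exists_hom_of_degree_one ⟨n, τ, hτ⟩ (by rw [hθ1, hn1, Nat.cast_one])
  refine hab K (fun a ha b hb => ?_) hidx.le
  have hc : χ (a * b * a⁻¹ * b⁻¹) = χ 1 := by
    rw [congrFun he, h2]
    show Cfsg.indFun K θ _ = 2
    rw [Cfsg.indFun, Finset.sum_congr rfl (g := fun _ => (1 : ℂ)) fun x _ => ?_, Finset.sum_const, Finset.card_univ,
      nsmul_eq_mul, mul_one, ← Nat.card_eq_fintype_card, ← K.card_mul_index, hidx, Nat.cast_mul, ← mul_assoc,
      inv_mul_cancel₀ (Nat.cast_ne_zero.2 Nat.card_pos.ne'), one_mul]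
    · norm_num
    have hm : ∀ c ∈ K, x⁻¹ * c * x ∈ K := fun c hc => by simpa using Subgroup.Normal.conj_mem inferInstance c hc x⁻¹
    set a' : K := ⟨_, hm a ha⟩
    set b' : K := ⟨_, hm b hb⟩
    have e : x⁻¹ * (a * b * a⁻¹ * b⁻¹) * x = ((a' * b' * a'⁻¹ * b'⁻¹ : K) : H) := by simp [a', b', mul_assoc]
    rw [e, Cfsg.extendByZero, Subtype.val_injective.extend_apply, hf]
    simp [mul_comm (f a')]
  exact mul_inv_eq_iff_eq_mul.mp (mul_inv_eq_one.mp (hfaith _ hc))

/-- The centre consists of scalars. -/
theorem card_center_dvd (hρ : Function.Injective ρ) (hab : NoAb H) :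
    Nat.card (Subgroup.center H) ∣ p - 1 := by
  obtain ⟨a, b, hne⟩ := hab.noncomm
  have hsc : ∀ z ∈ Subgroup.center H, (ρ z : Matrix (Fin 2) (Fin 2) (ZMod p)) 0 1 = 0 ∧
      (ρ z : Matrix (Fin 2) (Fin 2) (ZMod p)) 1 0 = 0 ∧
      (ρ z : Matrix (Fin 2) (Fin 2) (ZMod p)) 0 0 = (ρ z : Matrix (Fin 2) (Fin 2) (ZMod p)) 1 1 := by
    intro z hz
    by_contra h
    refine hne (hρ (Units.ext ?_))
    rw [map_mul, map_mul, Units.val_mul, Units.val_mul]
    refine mat2_commute h ?_ ?_ <;>
      rw [← Units.val_mul, ← Units.val_mul, ← map_mul, ← map_mul, Subgroup.mem_center_iff.1 hz]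
  let f : Subgroup.center H →* ZMod p :=
    { toFun := fun z => (ρ (z : H) : Matrix (Fin 2) (Fin 2) (ZMod p)) 0 0
      map_one' := by simp
      map_mul' := fun z w => by simp [Matrix.mul_apply, Fin.sum_univ_two, (hsc z z.2).1] }
  have hf : Function.Injective f.toHomUnits := by
    rw [injective_iff_map_eq_one]
    intro z hz
    have h00 : (ρ (z : H) : Matrix (Fin 2) (Fin 2) (ZMod p)) 0 0 = 1 := congrArg Units.val hz
    refine Subtype.ext (hρ (Units.ext ?_))
    obtain ⟨h1, h2, h3⟩ := hsc z z.2
    ext i j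
    fin_cases i <;> fin_cases j <;> simp [h00, h1, h2, ← h3]
  have h := Subgroup.card_dvd_of_injective _ hf
  rwa [Nat.card_eq_fintype_card (α := (ZMod p)ˣ), ZMod.card_units] at h

omit [hp : Fact p.Prime] in
/-- An element whose `s`-th power is central has a centralizer of order at least `s` times the centre. -/
theorem mul_center_le_centralizer {g : H} {s : ℕ} (hs : s.Prime) (hg : g ∉ Subgroup.center H)
    (hgs : g ^ s ∈ Subgroup.center H) :
    s * Nat.card (Subgroup.center H) ≤ Nat.card (Subgroup.centralizer ({g} : Set H)) := by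
  set A := Subgroup.centralizer ({g} : Set H)
  have hZA : Subgroup.center H ≤ A := Subgroup.center_le_centralizer _
  set Z' := (Subgroup.center H).subgroupOf A
  let g' : A := ⟨g, Subgroup.mem_centralizer_singleton_iff.2 rfl⟩
  haveI : Z'.Normal := inferInstance
  have ho : orderOf (g' : A ⧸ Z') = s := by
    haveI : Fact s.Prime := ⟨hs⟩
    refine orderOf_eq_prime ?_ fun h => hg ?_
    · rw [← QuotientGroup.mk_pow, QuotientGroup.eq_one_iff]; exact hgs
    · exact ((QuotientGroup.eq_one_iff g').1 h : g' ∈ Z')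
  have h1 : s ≤ Z'.index := by
    rw [Subgroup.index_eq_card, ← ho]
    exact Nat.le_of_dvd Nat.card_pos (orderOf_dvd_natCard _)
  have h2 := Z'.card_mul_index
  rw [Nat.card_congr (Subgroup.subgroupOfEquivOfLe hZA).toEquiv] at h2
  rw [← h2, mul_comm]
  exact Nat.mul_le_mul_left _ h1

omit [hp : Fact p.Prime] in
/-- The class equation lower bound. -/
theorem class_bound (S : Finset H) (e : ℕ) (hS : ∀ g ∈ S, g ∉ Subgroup.center H ∧
      2 * Nat.card (Subgroup.center H) + e ≤ Nat.card (Subgroup.centralizer ({g} : Set H))) :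
    Nat.card (Subgroup.center H) * Nat.card H +
        (Nat.card H - Nat.card (Subgroup.center H)) * (2 * Nat.card (Subgroup.center H)) + S.card * e
      ≤ Nat.card (ConjClasses H) * Nat.card H := by
  letI := Fintype.ofFinite H
  set z := Nat.card (Subgroup.center H)
  set C := fun g : H => Nat.card (Subgroup.centralizer ({g} : Set H))
  set T := (Finset.univ : Finset H).filter fun g => g ∈ Subgroup.center H
  have hT : T.card = z := by rw [← Fintype.card_subtype, ← Nat.card_eq_fintype_card]
  rw [CfsgLib.KnownA.SL2Torus.card_conjClasses_mul, ← Finset.sum_filter_add_sum_filter_not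
    (Finset.univ : Finset H) (fun g => g ∈ Subgroup.center H), add_assoc]
  refine add_le_add (le_of_eq ?_) ?_
  · rw [Finset.sum_congr rfl (g := fun _ => Nat.card H) fun g hg => ?_, Finset.sum_const, smul_eq_mul, hT]
    rw [show Subgroup.centralizer ({g} : Set H) = ⊤ from eq_top_iff.2 fun x _ =>
      Subgroup.mem_centralizer_singleton_iff.2 (Subgroup.mem_center_iff.1 (Finset.mem_filter.1 hg).2 x),
      Subgroup.card_top]
  set U := (Finset.univ : Finset H).filter fun g => g ∉ Subgroup.center H
  have hU : U.card = Nat.card H - z := by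
    rw [← hT, Nat.card_eq_fintype_card, ← Finset.card_univ,
      ← Finset.card_filter_add_card_filter_not (s := (Finset.univ : Finset H)) (fun g => g ∈ Subgroup.center H)]
    exact (Nat.add_sub_cancel_left _ _).symm
  have hSU : S ⊆ U := fun g hg => Finset.mem_filter.2 ⟨Finset.mem_univ _, (hS g hg).1⟩
  have h2 : ∀ g ∈ U, 2 * z ≤ C g := by
    intro g hg
    have hgc := (Finset.mem_filter.1 hg).2
    obtain ⟨c, hc⟩ := Subgroup.card_dvd_of_le (Subgroup.center_le_centralizer ({g} : Set H))
    have hlt : z < C g := by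
      refine lt_of_le_of_ne (Subgroup.card_le_of_le (Subgroup.center_le_centralizer _)) fun h => hgc ?_
      rw [Subgroup.eq_of_le_of_card_ge (Subgroup.center_le_centralizer ({g} : Set H)) h.ge]
      exact Subgroup.mem_centralizer_singleton_iff.2 rfl
    show 2 * z ≤ C g
    simp only [C] at hlt ⊢
    rw [hc] at hlt ⊢
    rw [mul_comm 2]
    exact Nat.mul_le_mul_left _ (by by_contra hc2; interval_cases c <;> omega)
  rw [← hU, ← Finset.sum_sdiff hSU, ← Finset.card_sdiff_add_card_eq_card hSU, add_mul, add_assoc, ← mul_add]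
  refine add_le_add ?_ ?_
  · rw [← smul_eq_mul]
    exact Finset.card_nsmul_le_sum (U \ S) C (2 * z) fun g hg => h2 g (Finset.mem_sdiff.1 hg).1
  · rw [← smul_eq_mul]
    exact Finset.card_nsmul_le_sum S C (2 * z + e) fun g hg => (hS g hg).2

omit [hp : Fact p.Prime] in
/-- Elements of prime order modulo the centre. -/
theorem exists_prime_mod_center {s : ℕ} (hs : s.Prime) (hd : s ∣ (Subgroup.center H).index) :
    ∃ (x : H) (S : Finset H), x ∉ Subgroup.center H ∧ x ^ s ∈ Subgroup.center H ∧
      S.card = (s - 1) * Nat.card (Subgroup.center H) ∧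
      ∀ g, g ∈ S ↔ ∃ j, 0 < j ∧ j < s ∧ ∃ c ∈ Subgroup.center H, g = x ^ j * c := by
  haveI : Fact s.Prime := ⟨hs⟩
  letI := Fintype.ofFinite H
  obtain ⟨y, hy⟩ := exists_prime_orderOf_dvd_card' (G := H ⧸ Subgroup.center H) s hd
  obtain ⟨x, rfl⟩ := QuotientGroup.mk_surjective y
  have hx : x ∉ Subgroup.center H := fun h => hs.one_lt.ne (by
    rw [← hy, (QuotientGroup.eq_one_iff x).2 h, orderOf_one])
  have hxs : x ^ s ∈ Subgroup.center H := by
    rw [← QuotientGroup.eq_one_iff, QuotientGroup.mk_pow, ← hy, pow_orderOf_eq_one]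
  refine ⟨x, ((Finset.Ioo 0 s) ×ˢ (Finset.univ : Finset (Subgroup.center H))).image fun q => x ^ q.1 * q.2, hx, hxs,
    ?_, fun g => ?_⟩
  · rw [Finset.card_image_of_injOn, Finset.card_product, Nat.card_Ioo, Finset.card_univ, Nat.card_eq_fintype_card,
      Nat.sub_zero]
    intro q hq q' hq' he
    simp only [Finset.coe_product, Set.mem_prod, Finset.coe_Ioo, Set.mem_Ioo] at hq hq'
    have h1 : ((x : H ⧸ Subgroup.center H)) ^ q.1 = (x : H ⧸ Subgroup.center H) ^ q'.1 := by
      have h := congrArg (fun g : H => (g : H ⧸ Subgroup.center H)) he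
      simpa [(QuotientGroup.eq_one_iff (q.2 : H)).2 q.2.2, (QuotientGroup.eq_one_iff (q'.2 : H)).2 q'.2.2] using h
    have h2 := pow_injOn_Iio_orderOf (x := (x : H ⧸ Subgroup.center H)) (Set.mem_Iio.2 (hy ▸ hq.1.2))
      (Set.mem_Iio.2 (hy ▸ hq'.1.2)) h1
    refine Prod.ext h2 (Subtype.ext ?_)
    simpa [h2] using he
  · simp only [Finset.mem_image, Finset.mem_product, Finset.mem_Ioo, Finset.mem_univ, and_true, Prod.exists]
    constructor
    · rintro ⟨j, c, ⟨h1, h2⟩, rfl⟩; exact ⟨j, h1, h2, c, c.2, rfl⟩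
    · rintro ⟨j, h1, h2, c, hc, rfl⟩; exact ⟨j, ⟨c, hc⟩, ⟨h1, h2⟩, rfl⟩

/-- With no abelian subgroup of index two, no element of odd prime order generates a normal subgroup
modulo the centre. -/
theorem exists_conj_outside (hH : ¬ p ∣ Nat.card H) (hρ : Function.Injective ρ) (hab : NoAb H) {s : ℕ} (hs : s.Prime)
    (hsz : ¬ s ∣ Nat.card (Subgroup.center H)) {x : H} (hx : orderOf x = s) :
    ∃ g : H, ∀ j, ∀ c ∈ Subgroup.center H, g * x * g⁻¹ ≠ x ^ j * c := by
  by_contra h
  push Not at h
  have hxc : x ∉ Subgroup.center H := fun hc => hsz (by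
    have := orderOf_dvd_natCard (⟨x, hc⟩ : Subgroup.center H)
    rwa [← Subgroup.orderOf_coe, hx] at this)
  haveI hN : (Subgroup.zpowers x).Normal := ⟨fun w hw g => by
    obtain ⟨j, c, hc, hj⟩ := h g
    have hc1 : c = 1 := by
      have hcom : Commute (x ^ j) c := Subgroup.mem_center_iff.1 hc (x ^ j)
      have hxs : x ^ s = 1 := hx ▸ pow_orderOf_eq_one x
      have h1 : c ^ s = 1 := by
        have h2 : (g * x * g⁻¹) ^ s = 1 := by rw [conj_pow, hxs, mul_one, mul_inv_cancel]
        rw [hj, hcom.mul_pow, ← pow_mul, mul_comm, pow_mul, hxs, one_pow, one_mul] at h2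
        exact h2
      have h3 : orderOf c ∣ s := orderOf_dvd_of_pow_eq_one h1
      rcases (Nat.dvd_prime hs).1 h3 with h4 | h4
      · exact orderOf_eq_one_iff.1 h4
      · exfalso
        apply hsz
        have := orderOf_dvd_natCard (⟨c, hc⟩ : Subgroup.center H)
        rwa [← Subgroup.orderOf_coe, h4] at this
    rw [hc1, mul_one] at hj
    obtain ⟨m, rfl⟩ := Subgroup.mem_zpowers_iff.1 hw
    rw [← conj_zpow, hj]
    exact Subgroup.zpow_mem _ (Subgroup.pow_mem _ (Subgroup.mem_zpowers x) j) m⟩
  obtain ⟨σ, hσ⟩ := exists_complex_lift hH ρ hρ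
  exact hab _ (centralizer_comm hρ hxc) (index_centralizer_le hs σ hσ hx hN)

omit [hp : Fact p.Prime] in
/-- A solvable group of order sixty has a normal Sylow five-subgroup. -/
theorem normal_five_of_solvable {K : Type*} [Group K] [Finite K] (hK : Nat.card K = 60) [Group.IsSolvable K] :
    ∀ P : Sylow 5 K, (P : Subgroup K).Normal := by
  intro P
  haveI : Fact (Nat.Prime 5) := ⟨Nat.prime_five⟩
  haveI : Nontrivial K := Finite.one_lt_card_iff_nontrivial.1 (by omega)
  by_contra hP
  have hP5 : Nat.card (P : Subgroup K) = 5 := by rw [P.card_eq_multiplicity, hK]; decide +kernel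
  obtain ⟨u, hu⟩ := exists_prime_orderOf_dvd_card' (G := (P : Subgroup K)) 5 (dvd_of_eq hP5.symm)
  rw [← Subgroup.orderOf_coe] at hu
  have hzP : Subgroup.zpowers (u : K) = P :=
    Subgroup.eq_of_le_of_card_ge (Subgroup.zpowers_le.2 u.2) (by rw [Nat.card_zpowers, hu, hP5])
  have hu5 : (u : K) ^ 5 = 1 := orderOf_dvd_iff_pow_eq_one.1 (dvd_of_eq hu)
  -- the normalizer has order ten
  have hn5 : (Subgroup.normalizer (P : Set K)).index = 6 := by
    rw [← P.card_eq_index_normalizer]
    have h1 := card_sylow_modEq_one 5 K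
    have h2 : Nat.card (Sylow 5 K) ∣ 12 := by
      refine (Sylow.card_dvd_index P).trans (dvd_of_eq ?_)
      have := (P : Subgroup K).card_mul_index
      rw [hP5, hK] at this; omega
    have h3 : Nat.card (Sylow 5 K) ≠ 1 := fun h => hP (by
      haveI := (Nat.card_eq_one_iff_unique.1 h).1; exact Sylow.normal_of_subsingleton P)
    have := Nat.le_of_dvd (by norm_num) h2
    unfold Nat.ModEq at h1
    interval_cases Nat.card (Sylow 5 K) <;> omega
  obtain ⟨s, M, hs, hM, hMi⟩ := CfsgLib.Solvable.Schmidt.exists_normal_prime_index (G := K)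
  haveI := hM
  have hMc := M.card_mul_index
  rw [hMi, hK] at hMc
  have hs5 : s = 2 ∨ s = 3 ∨ s = 5 := by
    have h : s ∣ 60 := Dvd.intro_left _ hMc
    have := Nat.le_of_dvd (by norm_num) h
    have h2 := hs.two_le
    interval_cases s <;> first | omega | (exact absurd hs (by norm_num)) | (norm_num at h)
  -- `u` centralizes no element of order three
  have hno3 : ∀ t : K, orderOf t = 3 → (u : K) * t * (u : K)⁻¹ ∈ Subgroup.zpowers t → False := by
    intro t ht h
    have hcomm : (u : K) * t = t * u := by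
      obtain ⟨k, -, hk⟩ := Finset.mem_image.1 ((isOfFinOrder_of_finite t).mem_zpowers_iff_mem_range_orderOf.1 h)
      have hit : ∀ i, (u : K) ^ i * t * ((u : K) ^ i)⁻¹ = t ^ (k ^ i) := by
        intro i
        induction i with
        | zero => simp
        | succ i ih =>
          rw [pow_succ, _root_.mul_inv_rev, show (u : K) ^ i * u * t * ((u : K)⁻¹ * ((u : K) ^ i)⁻¹) =
            (u : K) ^ i * ((u : K) * t * (u : K)⁻¹) * ((u : K) ^ i)⁻¹ by group, ← hk, ← conj_pow, ih,
            ← pow_mul, pow_succ]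
      have h5 := hit 5
      rw [hu5, inv_one, mul_one, one_mul] at h5
      have h6 : k ^ 5 % 3 = 1 := by
        have := pow_eq_pow_iff_modEq.1 ((pow_one t).trans h5)
        rw [ht] at this
        exact this.symm
      have h7 : k % 3 = 1 := by
        rw [Nat.pow_mod] at h6
        have hlt := Nat.mod_lt k (show 3 > 0 by norm_num)
        generalize k % 3 = j at *
        revert h6
        interval_cases j <;> decide
      have h8 : t ^ k = t := by rw [← pow_mod_orderOf, ht, h7, pow_one]
      rw [h8] at hk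
      exact mul_inv_eq_iff_eq_mul.1 hk.symm
    have hle : Subgroup.zpowers t ≤ Subgroup.normalizer (P : Set K) := by
      rw [Subgroup.zpowers_le]
      show t ∈ Subgroup.normalizer ((P : Subgroup K) : Set K)
      rw [← hzP, Subgroup.mem_normalizer_iff]
      intro w
      have hzn : ∀ m : ℤ, t * (u : K) ^ m * t⁻¹ = (u : K) ^ m := fun m => by
        rw [mul_inv_eq_iff_eq_mul]
        exact ((Commute.zpow_left (show Commute (u : K) t from hcomm) m).eq).symm
      constructor
      · intro hw
        obtain ⟨m, rfl⟩ := Subgroup.mem_zpowers_iff.1 hw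
        exact ⟨m, (hzn m).symm⟩
      · intro hw
        obtain ⟨m, hm⟩ := Subgroup.mem_zpowers_iff.1 hw
        refine ⟨m, ?_⟩
        have := hm.trans rfl
        rw [← hzn m] at this
        exact mul_left_cancel (mul_right_cancel this)
    have h1 := Subgroup.card_dvd_of_le hle
    have h2 := (Subgroup.normalizer (P : Set K)).card_mul_index
    rw [hn5, hK] at h2
    rw [Nat.card_zpowers, ht] at h1
    omega
  by_cases h5 : s = 5
  · subst h5
    have hM12 : Nat.card M = 12 := by omega
    haveI : Fact (Nat.Prime 3) := ⟨Nat.prime_three⟩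
    have hS3 : Nat.card (Sylow 3 M) ≤ 4 := by
      refine Nat.le_of_dvd (by norm_num) ((Sylow.card_dvd_index (default : Sylow 3 M)).trans (dvd_of_eq ?_))
      have h1 := ((default : Sylow 3 M) : Subgroup M).card_mul_index
      rw [hM12, (default : Sylow 3 M).card_eq_multiplicity, hM12,
        show (12 : ℕ).factorization 3 = 1 by decide +kernel] at h1
      omega
    let c : MulAut M := MulAut.conjNormal (u : K)
    let π : Equiv.Perm (Sylow 3 M) := MulAction.toPerm c
    have hπ : π ^ 5 = 1 := by
      ext Q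
      have hc : c ^ 5 = 1 := by rw [← map_pow, hu5, map_one]
      have : ∀ i, (π ^ i) Q = (c ^ i) • Q := by
        intro i
        induction i with
        | zero => simp
        | succ i ih => rw [pow_succ', pow_succ', Equiv.Perm.mul_apply, ih, mul_smul]; rfl
      rw [this, hc, one_smul]; rfl
    haveI : Finite (Sylow 3 M) := inferInstance
    have hπ1 : π = 1 := by
      have h1 : orderOf π ∣ 5 := orderOf_dvd_of_pow_eq_one hπ
      have h2 : orderOf π ∣ Nat.factorial (Nat.card (Sylow 3 M)) := by
        rw [← Nat.card_perm]; exact orderOf_dvd_natCard π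
      rcases (Nat.dvd_prime Nat.prime_five).1 h1 with h | h
      · exact orderOf_eq_one_iff.1 h
      · rw [h] at h2
        exact absurd ((Nat.prime_five.dvd_factorial).1 h2) (by omega)
    obtain ⟨t, ht⟩ := exists_prime_orderOf_dvd_card' (G := M) 3 (by rw [hM12]; norm_num)
    obtain ⟨Q, hQ⟩ := (IsPGroup.of_card (p := 3) (n := 1) (G := Subgroup.zpowers t)
      (by rw [Nat.card_zpowers, ht, pow_one])).exists_le_sylow
    have hQc : Nat.card (Q : Subgroup M) = 3 := by rw [Q.card_eq_multiplicity, hM12]; decide +kernel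
    have hQt : (Q : Subgroup M) = Subgroup.zpowers t :=
      (Subgroup.eq_of_le_of_card_ge hQ (by rw [hQc, Nat.card_zpowers, ht])).symm
    have hfix : c t ∈ Subgroup.zpowers t := by
      have h1 : c • Q = Q := Equiv.congr_fun hπ1 Q
      have h2 : c • t ∈ ((c • Q : Sylow 3 M) : Subgroup M) :=
        Subgroup.smul_mem_pointwise_smul _ _ _ (hQ (Subgroup.mem_zpowers t))
      rwa [h1, hQt] at h2
    obtain ⟨m, hm⟩ := Subgroup.mem_zpowers_iff.1 hfix
    exact hno3 (t : K) (by rw [Subgroup.orderOf_coe]; exact ht) ⟨m, by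
      have := congrArg Subtype.val hm
      simpa [c, MulAut.conjNormal_apply] using this⟩
  · -- every Sylow five-subgroup lies in `M`, which has a normal one
    have hdvd : 5 ∣ Nat.card M := by
      rcases hs5 with rfl | rfl | rfl <;> omega
    haveI : Fact (Nat.Prime 2) := ⟨Nat.prime_two⟩
    let R : Sylow 5 M := default
    have hnorm : (R : Subgroup M).Normal := by
      by_contra hR
      have h1 := card_sylow_modEq_one 5 M
      have h3 : Nat.card (Sylow 5 M) ≠ 1 := fun h => hR (by
        haveI := (Nat.card_eq_one_iff_unique.1 h).1; exact Sylow.normal_of_subsingleton R)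
      have hRc : Nat.card (R : Subgroup M) = 5 := by
        rw [R.card_eq_multiplicity]
        rcases hs5 with rfl | rfl | rfl
        · rw [show Nat.card M = 30 by omega]; decide +kernel
        · rw [show Nat.card M = 20 by omega]; decide +kernel
        · exact absurd rfl h5
      have h2 := Sylow.card_dvd_index R
      have h4 := (R : Subgroup M).card_mul_index
      rw [hRc] at h4
      have h1' : Nat.card (Sylow 5 M) % 5 = 1 := h1
      rcases hs5 with rfl | rfl | rfl
      · -- order thirty: a normal subgroup of order fifteen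
        have hM30 : Nat.card M = 30 := by omega
        let T : Sylow 2 M := default
        have hT2 : Nat.card (T : Subgroup M) = 2 := by rw [T.card_eq_multiplicity, hM30]; decide +kernel
        haveI hTc : IsCyclic (T : Subgroup M) := isCyclic_of_prime_card hT2
        have hTN := hTc.normalizer_le_centralizer (P := T)
          ((Nat.minFac_eq_two_iff _).mpr (by rw [hM30]; norm_num))
        have hcompl := MonoidHom.ker_transferSylow_isComplement' T hTN
        set L := (MonoidHom.transferSylow T hTN).ker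
        have hL : Nat.card L = 15 := by
          have := hcompl.card_mul_card
          rw [hT2, hM30] at this; omega
        let R' : Sylow 5 L := default
        have hone : Nat.card (Sylow 5 L) = 1 := by
          have e1 := card_sylow_modEq_one 5 L
          have e2 := Sylow.card_dvd_index R'
          have e3 := (R' : Subgroup L).card_mul_index
          rw [R'.card_eq_multiplicity, hL, show (15 : ℕ).factorization 5 = 1 by decide +kernel] at e3
          rw [show (R' : Subgroup L).index = 3 by omega] at e2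
          have := Nat.le_of_dvd (by norm_num) e2
          unfold Nat.ModEq at e1
          interval_cases Nat.card (Sylow 5 L) <;> omega
        haveI := (Nat.card_eq_one_iff_unique.1 hone).1
        haveI := R'.characteristic_of_subsingleton
        have hmap : ((R' : Subgroup L).map L.subtype).Normal := inferInstance
        refine hR ?_
        have hc : Nat.card ((R' : Subgroup L).map L.subtype) = 5 := by
          rw [Subgroup.card_map_of_injective (Subgroup.subtype_injective L), R'.card_eq_multiplicity, hL]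
          decide +kernel
        have hle := (IsPGroup.of_card (p := 5) (n := 1) (G := (R' : Subgroup L).map L.subtype)
          (by rw [hc, pow_one])).le_sylow_of_normal R
        rw [← Subgroup.eq_of_le_of_card_ge hle (by rw [hRc, hc])]
        exact hmap
      · rw [show (R : Subgroup M).index = 4 by omega] at h2
        have := Nat.le_of_dvd (by norm_num) h2
        interval_cases Nat.card (Sylow 5 M) <;> omega
      · exact h5 rfl
    haveI := R.characteristic_of_normal hnorm
    have hmap : ((R : Subgroup M).map M.subtype).Normal := inferInstance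
    have hc : Nat.card ((R : Subgroup M).map M.subtype) = 5 := by
      rw [Subgroup.card_map_of_injective (Subgroup.subtype_injective M), R.card_eq_multiplicity]
      rcases hs5 with rfl | rfl | rfl
      · rw [show Nat.card M = 30 by omega]; decide +kernel
      · rw [show Nat.card M = 20 by omega]; decide +kernel
      · exact absurd rfl h5
    have hle := (IsPGroup.of_card (p := 5) (n := 1) (G := (R : Subgroup M).map M.subtype)
      (by rw [hc, pow_one])).le_sylow_of_normal P
    exact hP (Subgroup.eq_of_le_of_card_ge hle (by rw [hP5, hc]) ▸ hmap)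

/-- Transitive two-dimensional `p'`-groups with fewer than `p` classes. -/
theorem le_card_conjClasses_two (hH : ¬ p ∣ Nat.card H) (hρ : Function.Injective ρ) (ht : TransNonzero ρ)
    (hp5 : 5 ≤ p) :
    p ≤ Nat.card (ConjClasses H) ∨
      (p = 11 ∧ Nat.card H = 120 ∧ Nonempty (H ≃* Matrix.SpecialLinearGroup (Fin 2) (ZMod 5))) := by
  by_cases hab : NoAb H
  swap
  · exact Or.inl (le_of_not_noAb ht hp5 hab)
  set z := Nat.card (Subgroup.center H) with hz
  set N := (Subgroup.center H).index with hN
  have hzN : z * N = Nat.card H := (Subgroup.center H).card_mul_index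
  have hcases := index_center_cases hH hρ hab
  rw [← hN] at hcases
  have hzp := card_center_dvd hρ hab
  have hdvd := pow_sub_one_dvd_card two_pos ht
  rw [← hzN] at hdvd
  have hp1 : p + 1 ∣ N := by
    obtain ⟨c, hc⟩ := hzp
    have h1 : (p - 1) * (p + 1) ∣ (p - 1) * N := by
      rw [show (p - 1) * (p + 1) = p ^ 2 - 1 by
        rw [mul_comm, ← Nat.sq_sub_sq, one_pow]]
      exact hdvd.trans ⟨c, by rw [hc, ← hz]; ring⟩
    exact (Nat.mul_dvd_mul_iff_left (by omega)).1 h1
  have hN60 : N ≤ 60 := by rcases hcases with h | h | h <;> omega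
  have hN0 : 0 < N := by rcases hcases with h | h | h <;> omega
  have hp60 : p < 60 := by have := Nat.le_of_dvd hN0 hp1; omega
  have hz60 : z < 60 := by have := Nat.le_of_dvd (by omega) hzp; omega
  have hz0 : 0 < z := Nat.card_pos
  have hmemN : N ∈ [12, 24, 60] := by rcases hcases with h | h | h <;> simp [h]
  have hT := table p hp60 hp.out hp5 N hmemN z hz60 hzp hdvd (hzN ▸ hH)
  set k := Nat.card (ConjClasses H) with hk
  -- elements of prime order modulo the centre
  set s := if N = 60 then 5 else 3 with hs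
  have hsp : s.Prime := by rw [hs]; split_ifs <;> norm_num
  have hsN : s ∣ N := by
    rw [hs]
    rcases hcases with h | h | h <;> rw [h] <;> norm_num
  obtain ⟨x, S, hxc, hxs, hScard, hSmem⟩ := exists_prime_mod_center (H := H) hsp hsN
  have hS : ∀ g ∈ S, g ∉ Subgroup.center H ∧ g ^ s ∈ Subgroup.center H := by
    intro g hg
    obtain ⟨j, hj0, hjs, c, hc, rfl⟩ := (hSmem g).1 hg
    refine ⟨fun h => ?_, ?_⟩
    · have hxj : x ^ j ∈ Subgroup.center H := (Subgroup.mul_mem_cancel_right _ hc).1 h
      have hcop : Nat.gcd j s = 1 := ((hsp.coprime_iff_not_dvd).2 fun hd =>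
        absurd (Nat.le_of_dvd hj0 hd) (by omega)).symm
      have hxz : (x : H ⧸ Subgroup.center H) = 1 := by
        have h1 : (x : H ⧸ Subgroup.center H) ^ Nat.gcd j s = 1 := pow_gcd_eq_one.2
          ⟨by rw [← QuotientGroup.mk_pow]; exact (QuotientGroup.eq_one_iff _).2 hxj,
            by rw [← QuotientGroup.mk_pow]; exact (QuotientGroup.eq_one_iff _).2 hxs⟩
        rwa [hcop, pow_one] at h1
      exact hxc ((QuotientGroup.eq_one_iff x).1 hxz)
    · have hcom : Commute (x ^ j) c := Subgroup.mem_center_iff.1 hc (x ^ j)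
      rw [hcom.mul_pow, ← pow_mul, mul_comm, pow_mul]
      exact mul_mem (pow_mem hxs j) (pow_mem hc s)
  have hSC : ∀ g ∈ S, g ∉ Subgroup.center H ∧
      2 * z + (s - 2) * z ≤ Nat.card (Subgroup.centralizer ({g} : Set H)) := fun g hg => ⟨(hS g hg).1, by
    rw [← add_mul, Nat.add_sub_cancel' hsp.two_le]
    exact mul_center_le_centralizer hsp (hS g hg).1 (hS g hg).2⟩
  have hbound := class_bound S ((s - 2) * z) hSC
  rw [← hk, ← hz, hScard, ← hzN] at hbound
  rcases hT with ⟨rfl, h1, h24⟩ | ⟨rfl, h1, h24⟩ | ⟨rfl, h1, h60⟩ | hT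
  · -- regular, hence an involution is central
    exfalso
    haveI : Fact (Nat.Prime 2) := ⟨Nat.prime_two⟩
    obtain ⟨t, ht2⟩ := exists_prime_orderOf_dvd_card' (G := H) 2 (by rw [← hzN, h1, h24]; norm_num)
    have hfix : ∀ (h : H) (v : Fin 2 → ZMod 5), v ≠ 0 →
        (ρ h : Matrix (Fin 2) (Fin 2) (ZMod 5)) *ᵥ v = v → h = 1 := regular_of_card two_pos ht (by
      rw [← hzN, h1, h24]; norm_num)
    have htt : ∀ v, (ρ t : Matrix (Fin 2) (Fin 2) (ZMod 5)) *ᵥ v = -v := by
      intro v
      by_contra hv
      have hne : v + (ρ t : Matrix (Fin 2) (Fin 2) (ZMod 5)) *ᵥ v ≠ 0 := fun h => hv (eq_neg_of_add_eq_zero_right h)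
      have h2 : t = 1 := hfix t _ hne (by
        rw [Matrix.mulVec_add, Matrix.mulVec_mulVec, ← Units.val_mul, ← map_mul, ← pow_two,
          show t ^ 2 = 1 from ht2 ▸ pow_orderOf_eq_one t, map_one, Units.val_one, Matrix.one_mulVec, add_comm])
      rw [h2, orderOf_one] at ht2
      omega
    have htc : t ∈ Subgroup.center H := Subgroup.mem_center_iff.2 fun g => hρ (Units.ext (by
      refine Matrix.ext_of_mulVec_single fun i => ?_
      rw [map_mul, map_mul, Units.val_mul, Units.val_mul, ← Matrix.mulVec_mulVec, ← Matrix.mulVec_mulVec, htt, htt,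
        Matrix.mulVec_neg]))
    have h2 := orderOf_dvd_natCard (⟨t, htc⟩ : Subgroup.center H)
    rw [← Subgroup.orderOf_coe, ht2, ← hz, h1] at h2
    omega
  · -- `p = 7`
    left
    have hs3 : s = 3 := by rw [hs, h24]; norm_num
    rw [hs3] at hbound hSC hS hxs hsp hScard hSmem
    rw [h1, h24] at hbound
    haveI : Fact (Nat.Prime 3) := ⟨Nat.prime_three⟩
    obtain ⟨y, hy⟩ := exists_prime_orderOf_dvd_card' (G := H) 3 (by rw [← hzN, h1, h24]; norm_num)
    have hz3 : ¬ 3 ∣ Nat.card (Subgroup.center H) := by rw [← hz, h1]; norm_num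
    by_contra hlt
    have hy1 : y ∉ Subgroup.center H := fun hc => hz3 (by
      have := orderOf_dvd_natCard (⟨y, hc⟩ : Subgroup.center H)
      rwa [← Subgroup.orderOf_coe, hy] at this)
    obtain ⟨g, hg⟩ := exists_conj_outside hH hρ hab Nat.prime_three hz3 hy
    obtain ⟨w, hw, hw3, hwS⟩ : ∃ w, w ∉ Subgroup.center H ∧ w ^ 3 = 1 ∧ w ∉ S := by
      have hy3 : y ^ 3 = 1 := hy ▸ pow_orderOf_eq_one y
      by_cases hyS : y ∈ S
      · refine ⟨g * y * g⁻¹, fun hc => hy1 ?_, by rw [conj_pow, hy3, mul_one, mul_inv_cancel], fun hm => ?_⟩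
        · have := Subgroup.Normal.conj_mem (inferInstance : (Subgroup.center H).Normal) _ hc g⁻¹
          simpa [mul_assoc] using this
        · obtain ⟨j, hj0, hj3, c, hc, hy'⟩ := (hSmem y).1 hyS
          obtain ⟨i, hi0, hi3, d, hd, hg'⟩ := (hSmem _).1 hm
          have hcom : Commute (x ^ j) c := Subgroup.mem_center_iff.1 hc (x ^ j)
          interval_cases i <;> interval_cases j
          · refine hg 1 (c⁻¹ * d) (mul_mem (inv_mem hc) hd) ?_
            rw [pow_one, hg', hy', mul_assoc, mul_inv_cancel_left]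
          · refine hg 2 ((c ^ 2)⁻¹ * (x ^ 3)⁻¹ * d) (mul_mem (mul_mem (inv_mem (pow_mem hc 2)) (inv_mem hxs)) hd) ?_
            rw [hg', hy', hcom.mul_pow, mul_assoc, ← mul_assoc (c ^ 2), ← mul_assoc (c ^ 2), mul_inv_cancel, one_mul,
              ← mul_assoc]
            group
          · refine hg 2 ((c ^ 2)⁻¹ * d) (mul_mem (inv_mem (pow_mem hc 2)) hd) ?_
            rw [hg', hy', hcom.mul_pow, mul_assoc, mul_inv_cancel_left, ← pow_mul]
          · refine hg 1 (c⁻¹ * d) (mul_mem (inv_mem hc) hd) ?_
            rw [pow_one, hg', hy', mul_assoc, mul_inv_cancel_left]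
      · exact ⟨y, hy1, hy3, hyS⟩
    have hb2 := class_bound (insert w S) ((3 - 2) * z) (fun u hu => by
      rcases Finset.mem_insert.1 hu with rfl | hu
      · refine ⟨hw, ?_⟩
        rw [← hz, ← add_mul]
        exact mul_center_le_centralizer Nat.prime_three hw (by rw [hw3]; exact one_mem _)
      · exact hSC u hu)
    rw [Finset.card_insert_of_notMem hwS, hScard, ← hk, ← hz, ← hzN, h1, h24] at hb2
    omega
  · -- `p = 11`
    have hcard : Nat.card H = 120 := by rw [← hzN, h1, h60]
    by_cases hsol : Group.IsSolvable H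
    · exfalso
      haveI : Fact (Nat.Prime 5) := ⟨Nat.prime_five⟩
      obtain ⟨y, hy⟩ := exists_prime_orderOf_dvd_card' (G := H) 5 (by rw [hcard]; norm_num)
      have hz5 : ¬ 5 ∣ Nat.card (Subgroup.center H) := by rw [← hz, h1]; norm_num
      obtain ⟨g, hg⟩ := exists_conj_outside hH hρ hab Nat.prime_five hz5 hy
      have hK : Nat.card (H ⧸ Subgroup.center H) = 60 := by rw [← Subgroup.index_eq_card, ← hN, h60]
      haveI := hsol
      obtain ⟨P, hP⟩ := (IsPGroup.of_card (p := 5) (n := 1)
        (G := Subgroup.zpowers (y : H ⧸ Subgroup.center H)) (by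
          rw [Nat.card_zpowers, pow_one]
          refine orderOf_eq_prime (by rw [← QuotientGroup.mk_pow, ← hy, pow_orderOf_eq_one]; rfl) fun h => ?_
          apply hz5
          have := orderOf_dvd_natCard (⟨y, (QuotientGroup.eq_one_iff y).1 h⟩ : Subgroup.center H)
          rwa [← Subgroup.orderOf_coe, hy] at this)).exists_le_sylow
      have hy' : orderOf (y : H ⧸ Subgroup.center H) = 5 :=
        orderOf_eq_prime (by rw [← QuotientGroup.mk_pow, ← hy, pow_orderOf_eq_one]; rfl) fun h => by
          apply hz5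
          have := orderOf_dvd_natCard (⟨y, (QuotientGroup.eq_one_iff y).1 h⟩ : Subgroup.center H)
          rwa [← Subgroup.orderOf_coe, hy] at this
      have hPc : Nat.card (P : Subgroup (H ⧸ Subgroup.center H)) = 5 := by
        rw [P.card_eq_multiplicity, hK]; decide +kernel
      have hPy : (P : Subgroup (H ⧸ Subgroup.center H)) = Subgroup.zpowers (y : H ⧸ Subgroup.center H) :=
        (Subgroup.eq_of_le_of_card_ge hP (by rw [hPc, Nat.card_zpowers, hy'])).symm
      have hc1 := (normal_five_of_solvable hK P).conj_mem (y : H ⧸ Subgroup.center H)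
        (hP (Subgroup.mem_zpowers _)) (g : H ⧸ Subgroup.center H)
      rw [hPy] at hc1
      obtain ⟨j, -, hj⟩ := Finset.mem_image.1
        ((isOfFinOrder_of_finite _).mem_zpowers_iff_mem_range_orderOf.1 hc1)
      rw [← QuotientGroup.mk_pow, ← QuotientGroup.mk_inv, ← QuotientGroup.mk_mul, ← QuotientGroup.mk_mul,
        QuotientGroup.eq] at hj
      exact hg j _ hj (by group)
    · right
      refine ⟨rfl, hcard, ?_⟩
      have hfix := regular_of_card two_pos ht (by rw [hcard]; norm_num)
      let ι : H →* ((Fin 2 → ZMod 11) ≃ₗ[ZMod 11] (Fin 2 → ZMod 11)) :=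
        (LinearMap.GeneralLinearGroup.generalLinearEquiv (ZMod 11) (Fin 2 → ZMod 11)).toMonoidHom.comp
          (Matrix.GeneralLinearGroup.toLin.toMonoidHom.comp ρ)
      have hι : ∀ h v, ι h v = (ρ h : Matrix (Fin 2) (Fin 2) (ZMod 11)) *ᵥ v := fun h v => by
        simp [ι, Matrix.GeneralLinearGroup.toLin]
      have hιi : Function.Injective ι :=
        (LinearMap.GeneralLinearGroup.generalLinearEquiv _ _).injective.comp
          (Matrix.GeneralLinearGroup.toLin.injective.comp hρ)
      let e : H ≃* ι.range := MonoidHom.ofInjective hιi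
      haveI : Finite ι.range := Finite.of_equiv H e.toEquiv
      rcases Cfsg.Agent.S0689.result ι.range (fun v w hv hw => by
        obtain ⟨h, hh⟩ := ht v w hv hw
        refine ⟨e h, (hι h v).trans hh, ?_⟩
        rintro ⟨_, u, rfl⟩ hu
        have h3 : h⁻¹ * u = 1 := hfix _ v hv (by
          rw [map_mul, Units.val_mul, ← Matrix.mulVec_mulVec, ← hι u v, show ι u v = w from hu, ← hh,
            Matrix.mulVec_mulVec, ← Units.val_mul, ← map_mul, inv_mul_cancel, map_one, Units.val_one,
            Matrix.one_mulVec])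
        exact Subtype.ext (congrArg ι (inv_mul_eq_one.1 h3)).symm)
        (fun hs' => hsol (by haveI := hs'; exact solvable_of_solvable_injective (f := e.toMonoidHom) e.injective))
        with ⟨-, ⟨f⟩⟩ | ⟨hv, -⟩ | ⟨hv, -⟩
      · exact ⟨e.trans f⟩
      all_goals
        rw [Nat.card_eq_fintype_card, Fintype.card_fun, ZMod.card, Fintype.card_fin] at hv
        norm_num at hv
  · left
    by_contra hlt
    have hk' : k ≤ p - 1 := by omega
    have hsz : (if N = 60 then 12 else 2) * z = (s - 1) * (s - 2) * z := by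
      rw [hs]; split_ifs <;> norm_num
    have h1 : z * (z * N + 2 * z * (N - 1) + (s - 1) * (s - 2) * z) ≤ z * ((p - 1) * N) := by
      refine le_trans (le_of_eq ?_) (hbound.trans ((Nat.mul_le_mul_right (z * N) hk').trans (le_of_eq (by ring))))
      obtain ⟨M, hM⟩ : ∃ M, N = M + 1 := ⟨N - 1, by omega⟩
      rw [hM, Nat.add_sub_cancel, show z * (M + 1) - z = z * M by rw [mul_add, mul_one, Nat.add_sub_cancel]]
      ring
    have := Nat.le_of_mul_le_mul_left h1 hz0
    rw [hsz] at hT
    omega

end CfsgLib.Frobenius.TwoClassPReg
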